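import Cfsg.Agent.H1.McT.D

/-! Generated by tools/h16 (computation kit). -/

set_option maxRecDepth 100000
set_option maxHeartbeats 0

namespace H1.McT

open H16

theorem ivc : ivChk Rl (nat_lit 5) = true := by decide +kernel
theorem tcb2e_a : allZ2 (ent2 Tb2 Eb2 (selR RLb2 Ib2) Db2 (nat_lit 7) (nat_lit 6) (nat_lit 6) (nat_lit 6) (nat_lit 2) (nat_lit 15) (nat_lit 0)) (nat_lit 2) (nat_lit 6) = true := by decide +kernel
theorem tcb2p_0 : allZ (eps2 Tb2 Eb2 Jb2 Wb2 RLb2 (nat_lit 7) (nat_lit 6) (nat_lit 6) (nat_lit 2) (nat_lit 0)) (nat_lit 0) (nat_lit 0) = true := by decide +kernel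
theorem tcb2r : rulesChk Rl cb2.Sl RLb2 (nat_lit 2) = true := by decide +kernel
theorem tcb2n : 0 < cb2.M ∧ cb2.n0 ≤ cb2.M ∧ 0 < cb2.K ∧ cb2.K ≤ 5 ∧ cb2.D 0 = 0 := by decide +kernel
theorem tcb2q : cb2.M - cb2.n = 0 := by decide +kernel
theorem stb2 : allL (ltAll 0) cb2.Sl = true ∧ 0 < cb2.n0 ∧ cb2.K = 2 ∧ cb2.n0 * 1 = 6 := by decide +kernel
theorem tcb3e_a : allZ2 (ent2 Tb3 Eb3 (selR RLb3 Ib3) Db3 (nat_lit 31) (nat_lit 28) (nat_lit 28) (nat_lit 28) (nat_lit 3) (nat_lit 127) (nat_lit 0)) (nat_lit 3) (nat_lit 28) = true := by decide +kernel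
theorem tcb3p_0 : allZ (eps2 Tb3 Eb3 Jb3 Wb3 RLb3 (nat_lit 31) (nat_lit 28) (nat_lit 28) (nat_lit 3) (nat_lit 0)) (nat_lit 0) (nat_lit 0) = true := by decide +kernel
theorem tcb3r : rulesChk Rl cb3.Sl RLb3 (nat_lit 3) = true := by decide +kernel
theorem tcb3n : 0 < cb3.M ∧ cb3.n0 ≤ cb3.M ∧ 0 < cb3.K ∧ cb3.K ≤ 5 ∧ cb3.D 0 = 0 := by decide +kernel
theorem tcb3q : cb3.M - cb3.n = 0 := by decide +kernel
theorem stb3 : allL (ltAll 2) cb3.Sl = true ∧ 0 < cb3.n0 ∧ cb3.K = 3 ∧ cb3.n0 * 6 = 168 := by decide +kernel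
theorem tcb4e_a : allZ2 (ent2 Tb4 Eb4 (selR RLb4 Ib4) Db4 (nat_lit 255) (nat_lit 240) (nat_lit 240) (nat_lit 242) (nat_lit 4) (nat_lit 1023) (nat_lit 1)) (nat_lit 4) (nat_lit 242) = true := by decide +kernel
theorem tcb4p_0 : allZ (eps2 Tb4 Eb4 Jb4 Wb4 RLb4 (nat_lit 255) (nat_lit 240) (nat_lit 242) (nat_lit 4) (nat_lit 1)) (nat_lit 0) (nat_lit 2) = true := by decide +kernel
theorem tcb4r : rulesChk Rl cb4.Sl RLb4 (nat_lit 4) = true := by decide +kernel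
theorem tcb4n : 0 < cb4.M ∧ cb4.n0 ≤ cb4.M ∧ 0 < cb4.K ∧ cb4.K ≤ 5 ∧ cb4.D 0 = 0 := by decide +kernel
theorem tcb4q : cb4.M - cb4.n = 2 := by decide +kernel
theorem stb4 : allL (ltAll 3) cb4.Sl = true ∧ 0 < cb4.n0 ∧ cb4.K = 4 ∧ cb4.n0 * 168 = 40320 := by decide +kernel
theorem tcb5e_0_0 : allZ (ent2 Tb5 Eb5 (selR RLb5 Ib5) Db5 (nat_lit 65535) (nat_lit 22275) (nat_lit 22275) (nat_lit 62284) (nat_lit 5) (nat_lit 524287) (nat_lit 4) (nat_lit 0)) (nat_lit 0) (nat_lit 13184) = true := by decide +kernel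
theorem tcb5e_0_1 : allZ (ent2 Tb5 Eb5 (selR RLb5 Ib5) Db5 (nat_lit 65535) (nat_lit 22275) (nat_lit 22275) (nat_lit 62284) (nat_lit 5) (nat_lit 524287) (nat_lit 4) (nat_lit 0)) (nat_lit 13184) (nat_lit 13184) = true := by decide +kernel
theorem tcb5e_0_2 : allZ (ent2 Tb5 Eb5 (selR RLb5 Ib5) Db5 (nat_lit 65535) (nat_lit 22275) (nat_lit 22275) (nat_lit 62284) (nat_lit 5) (nat_lit 524287) (nat_lit 4) (nat_lit 0)) (nat_lit 26368) (nat_lit 13184) = true := by decide +kernel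
theorem tcb5e_0_3 : allZ (ent2 Tb5 Eb5 (selR RLb5 Ib5) Db5 (nat_lit 65535) (nat_lit 22275) (nat_lit 22275) (nat_lit 62284) (nat_lit 5) (nat_lit 524287) (nat_lit 4) (nat_lit 0)) (nat_lit 39552) (nat_lit 13184) = true := by decide +kernel
theorem tcb5e_0_4 : allZ (ent2 Tb5 Eb5 (selR RLb5 Ib5) Db5 (nat_lit 65535) (nat_lit 22275) (nat_lit 22275) (nat_lit 62284) (nat_lit 5) (nat_lit 524287) (nat_lit 4) (nat_lit 0)) (nat_lit 52736) (nat_lit 9548) = true := by decide +kernel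
theorem tcb5e_1_0 : allZ (ent2 Tb5 Eb5 (selR RLb5 Ib5) Db5 (nat_lit 65535) (nat_lit 22275) (nat_lit 22275) (nat_lit 62284) (nat_lit 5) (nat_lit 524287) (nat_lit 4) (nat_lit 1)) (nat_lit 0) (nat_lit 17536) = true := by decide +kernel
theorem tcb5e_1_1 : allZ (ent2 Tb5 Eb5 (selR RLb5 Ib5) Db5 (nat_lit 65535) (nat_lit 22275) (nat_lit 22275) (nat_lit 62284) (nat_lit 5) (nat_lit 524287) (nat_lit 4) (nat_lit 1)) (nat_lit 17536) (nat_lit 17536) = true := by decide +kernel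
theorem tcb5e_1_2 : allZ (ent2 Tb5 Eb5 (selR RLb5 Ib5) Db5 (nat_lit 65535) (nat_lit 22275) (nat_lit 22275) (nat_lit 62284) (nat_lit 5) (nat_lit 524287) (nat_lit 4) (nat_lit 1)) (nat_lit 35072) (nat_lit 17536) = true := by decide +kernel
theorem tcb5e_1_3 : allZ (ent2 Tb5 Eb5 (selR RLb5 Ib5) Db5 (nat_lit 65535) (nat_lit 22275) (nat_lit 22275) (nat_lit 62284) (nat_lit 5) (nat_lit 524287) (nat_lit 4) (nat_lit 1)) (nat_lit 52608) (nat_lit 9676) = true := by decide +kernel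
theorem tcb5e_2_0 : allZ (ent2 Tb5 Eb5 (selR RLb5 Ib5) Db5 (nat_lit 65535) (nat_lit 22275) (nat_lit 22275) (nat_lit 62284) (nat_lit 5) (nat_lit 524287) (nat_lit 4) (nat_lit 2)) (nat_lit 0) (nat_lit 14528) = true := by decide +kernel

end H1.McT
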