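import Cfsg.Agent.H16.Fast
import Cfsg.Agent.H1.McT.R0
import Cfsg.Agent.H1.McT.R1

/-! Generated by tools/h16 (computation kit). -/

set_option maxRecDepth 100000
set_option maxHeartbeats 0

namespace H1.McT

open H16

noncomputable def Rl : List (List ℕ) := [[nat_lit 0, nat_lit 0],
  [nat_lit 1, nat_lit 1],
  [nat_lit 2, nat_lit 2],
  [nat_lit 3, nat_lit 3],
  [nat_lit 4, nat_lit 4],
  [nat_lit 0, nat_lit 1, nat_lit 0, nat_lit 1, nat_lit 0, nat_lit 1],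
  [nat_lit 1, nat_lit 2, nat_lit 1, nat_lit 2, nat_lit 1, nat_lit 2],
  [nat_lit 1, nat_lit 3, nat_lit 1, nat_lit 3, nat_lit 1, nat_lit 3],
  [nat_lit 0, nat_lit 2, nat_lit 0, nat_lit 2, nat_lit 0, nat_lit 2, nat_lit 0, nat_lit 2],
  [nat_lit 0, nat_lit 3, nat_lit 0, nat_lit 3, nat_lit 0, nat_lit 3, nat_lit 0, nat_lit 3],
  [nat_lit 2, nat_lit 3, nat_lit 2, nat_lit 3, nat_lit 2, nat_lit 3, nat_lit 2, nat_lit 3],
  [nat_lit 0, nat_lit 2, nat_lit 3, nat_lit 2, nat_lit 3, nat_lit 0, nat_lit 2, nat_lit 3, nat_lit 2, nat_lit 3],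
  [nat_lit 1, nat_lit 2, nat_lit 1, nat_lit 3, nat_lit 2, nat_lit 1, nat_lit 3, nat_lit 1, nat_lit 2, nat_lit 3],
  [nat_lit 1, nat_lit 2, nat_lit 3, nat_lit 2, nat_lit 3, nat_lit 1, nat_lit 2, nat_lit 3, nat_lit 2, nat_lit 3],
  [nat_lit 0, nat_lit 2, nat_lit 0, nat_lit 3, nat_lit 2, nat_lit 3, nat_lit 0, nat_lit 2, nat_lit 0, nat_lit 3, nat_lit 2, nat_lit 3],
  [nat_lit 0, nat_lit 2, nat_lit 1, nat_lit 3, nat_lit 1, nat_lit 2, nat_lit 0, nat_lit 2, nat_lit 3, nat_lit 1, nat_lit 2, nat_lit 3],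
  [nat_lit 0, nat_lit 2, nat_lit 3, nat_lit 0, nat_lit 2, nat_lit 3, nat_lit 0, nat_lit 2, nat_lit 3, nat_lit 0, nat_lit 3, nat_lit 2],
  [nat_lit 0, nat_lit 2, nat_lit 3, nat_lit 2, nat_lit 0, nat_lit 3, nat_lit 0, nat_lit 2, nat_lit 3, nat_lit 2, nat_lit 0, nat_lit 3],
  [nat_lit 0, nat_lit 1, nat_lit 0, nat_lit 2, nat_lit 0, nat_lit 1, nat_lit 2, nat_lit 1, nat_lit 0, nat_lit 2, nat_lit 0, nat_lit 1, nat_lit 2, nat_lit 0, nat_lit 2],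
  [nat_lit 4, nat_lit 0, nat_lit 1, nat_lit 4, nat_lit 0, nat_lit 1],
  [nat_lit 4, nat_lit 2, nat_lit 0, nat_lit 2, nat_lit 4, nat_lit 2, nat_lit 0, nat_lit 2],
  [nat_lit 4, nat_lit 2, nat_lit 3, nat_lit 0, nat_lit 2, nat_lit 3, nat_lit 4, nat_lit 3, nat_lit 2, nat_lit 3, nat_lit 2],
  [nat_lit 4, nat_lit 0, nat_lit 1, nat_lit 2, nat_lit 0, nat_lit 2, nat_lit 4, nat_lit 2, nat_lit 0, nat_lit 2, nat_lit 0, nat_lit 1],
  [nat_lit 4, nat_lit 0, nat_lit 2, nat_lit 0, nat_lit 2, nat_lit 1, nat_lit 4, nat_lit 0, nat_lit 1, nat_lit 2, nat_lit 0, nat_lit 2],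
  [nat_lit 4, nat_lit 2, nat_lit 3, nat_lit 0, nat_lit 3, nat_lit 2, nat_lit 4, nat_lit 2, nat_lit 3, nat_lit 0, nat_lit 3, nat_lit 2],
  [nat_lit 4, nat_lit 1, nat_lit 2, nat_lit 3, nat_lit 0, nat_lit 2, nat_lit 0, nat_lit 3, nat_lit 1, nat_lit 4, nat_lit 3, nat_lit 0, nat_lit 3],
  [nat_lit 4, nat_lit 1, nat_lit 3, nat_lit 0, nat_lit 3, nat_lit 1, nat_lit 4, nat_lit 3, nat_lit 2, nat_lit 0, nat_lit 2, nat_lit 0, nat_lit 3],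
  [nat_lit 0, nat_lit 4, nat_lit 0, nat_lit 4, nat_lit 0, nat_lit 4],
  [nat_lit 2, nat_lit 4, nat_lit 2, nat_lit 4, nat_lit 2, nat_lit 4, nat_lit 2, nat_lit 4, nat_lit 2, nat_lit 4, nat_lit 2, nat_lit 4],
  [nat_lit 0, nat_lit 2, nat_lit 4, nat_lit 0, nat_lit 2, nat_lit 4, nat_lit 0, nat_lit 2, nat_lit 4, nat_lit 0, nat_lit 2, nat_lit 4, nat_lit 0, nat_lit 2, nat_lit 4],
  [nat_lit 0, nat_lit 2, nat_lit 4, nat_lit 2, nat_lit 0, nat_lit 4, nat_lit 0, nat_lit 2, nat_lit 4, nat_lit 2, nat_lit 0, nat_lit 4, nat_lit 0, nat_lit 2, nat_lit 4, nat_lit 2, nat_lit 0, nat_lit 4],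
  [nat_lit 0, nat_lit 4, nat_lit 2, nat_lit 4, nat_lit 2, nat_lit 4, nat_lit 0, nat_lit 4, nat_lit 2, nat_lit 4, nat_lit 2, nat_lit 4, nat_lit 0, nat_lit 4, nat_lit 2, nat_lit 4, nat_lit 2, nat_lit 4],
  [nat_lit 0, nat_lit 1, nat_lit 2, nat_lit 4, nat_lit 0, nat_lit 1, nat_lit 2, nat_lit 4, nat_lit 0, nat_lit 1, nat_lit 2, nat_lit 4, nat_lit 0, nat_lit 1, nat_lit 2, nat_lit 4, nat_lit 0, nat_lit 1, nat_lit 2, nat_lit 4],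
  [nat_lit 1, nat_lit 2, nat_lit 1, nat_lit 4, nat_lit 1, nat_lit 2, nat_lit 1, nat_lit 4, nat_lit 1, nat_lit 2, nat_lit 1, nat_lit 4, nat_lit 1, nat_lit 2, nat_lit 1, nat_lit 4, nat_lit 1, nat_lit 2, nat_lit 1, nat_lit 4],
  [nat_lit 1, nat_lit 2, nat_lit 4, nat_lit 2, nat_lit 1, nat_lit 2, nat_lit 4, nat_lit 2, nat_lit 1, nat_lit 2, nat_lit 4, nat_lit 2, nat_lit 1, nat_lit 2, nat_lit 4, nat_lit 2, nat_lit 1, nat_lit 2, nat_lit 4, nat_lit 2],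
  [nat_lit 1, nat_lit 4, nat_lit 2, nat_lit 4, nat_lit 1, nat_lit 4, nat_lit 2, nat_lit 4, nat_lit 1, nat_lit 4, nat_lit 2, nat_lit 4, nat_lit 1, nat_lit 4, nat_lit 2, nat_lit 4, nat_lit 1, nat_lit 4, nat_lit 2, nat_lit 4],
  [nat_lit 0, nat_lit 1, nat_lit 0, nat_lit 2, nat_lit 0, nat_lit 2, nat_lit 4, nat_lit 0, nat_lit 1, nat_lit 0, nat_lit 2, nat_lit 0, nat_lit 2, nat_lit 4, nat_lit 0, nat_lit 1, nat_lit 0, nat_lit 2, nat_lit 0, nat_lit 2, nat_lit 4],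
  [nat_lit 0, nat_lit 1, nat_lit 0, nat_lit 2, nat_lit 4, nat_lit 2, nat_lit 4, nat_lit 0, nat_lit 1, nat_lit 0, nat_lit 2, nat_lit 4, nat_lit 2, nat_lit 4, nat_lit 0, nat_lit 1, nat_lit 0, nat_lit 2, nat_lit 4, nat_lit 2, nat_lit 4],
  [nat_lit 0, nat_lit 1, nat_lit 2, nat_lit 0, nat_lit 2, nat_lit 0, nat_lit 4, nat_lit 0, nat_lit 1, nat_lit 2, nat_lit 0, nat_lit 2, nat_lit 0, nat_lit 4, nat_lit 0, nat_lit 1, nat_lit 2, nat_lit 0, nat_lit 2, nat_lit 0, nat_lit 4],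
  [nat_lit 0, nat_lit 1, nat_lit 2, nat_lit 0, nat_lit 2, nat_lit 4, nat_lit 1, nat_lit 0, nat_lit 1, nat_lit 2, nat_lit 0, nat_lit 2, nat_lit 4, nat_lit 1, nat_lit 0, nat_lit 1, nat_lit 2, nat_lit 0, nat_lit 2, nat_lit 4, nat_lit 1],
  [nat_lit 1, nat_lit 3, nat_lit 4, nat_lit 1, nat_lit 3, nat_lit 4, nat_lit 1, nat_lit 3, nat_lit 4, nat_lit 1, nat_lit 3, nat_lit 4, nat_lit 1, nat_lit 3, nat_lit 4],
  [nat_lit 1, nat_lit 3, nat_lit 1, nat_lit 3, nat_lit 4, nat_lit 3, nat_lit 1, nat_lit 3, nat_lit 1, nat_lit 3, nat_lit 4, nat_lit 3, nat_lit 1, nat_lit 3, nat_lit 1, nat_lit 3, nat_lit 4, nat_lit 3],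
  [nat_lit 0, nat_lit 1, nat_lit 3, nat_lit 4, nat_lit 0, nat_lit 1, nat_lit 3, nat_lit 4, nat_lit 0, nat_lit 1, nat_lit 3, nat_lit 4, nat_lit 0, nat_lit 1, nat_lit 3, nat_lit 4, nat_lit 0, nat_lit 1, nat_lit 3, nat_lit 4],
  [nat_lit 1, nat_lit 3, nat_lit 1, nat_lit 4, nat_lit 1, nat_lit 3, nat_lit 1, nat_lit 4, nat_lit 1, nat_lit 3, nat_lit 1, nat_lit 4, nat_lit 1, nat_lit 3, nat_lit 1, nat_lit 4, nat_lit 1, nat_lit 3, nat_lit 1, nat_lit 4],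
  [nat_lit 1, nat_lit 3, nat_lit 4, nat_lit 3, nat_lit 1, nat_lit 3, nat_lit 4, nat_lit 3, nat_lit 1, nat_lit 3, nat_lit 4, nat_lit 3, nat_lit 1, nat_lit 3, nat_lit 4, nat_lit 3, nat_lit 1, nat_lit 3, nat_lit 4, nat_lit 3],
  [nat_lit 1, nat_lit 4, nat_lit 3, nat_lit 4, nat_lit 1, nat_lit 4, nat_lit 3, nat_lit 4, nat_lit 1, nat_lit 4, nat_lit 3, nat_lit 4, nat_lit 1, nat_lit 4, nat_lit 3, nat_lit 4, nat_lit 1, nat_lit 4, nat_lit 3, nat_lit 4],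
  [nat_lit 0, nat_lit 1, nat_lit 0, nat_lit 3, nat_lit 0, nat_lit 3, nat_lit 4, nat_lit 0, nat_lit 1, nat_lit 0, nat_lit 3, nat_lit 0, nat_lit 3, nat_lit 4, nat_lit 0, nat_lit 1, nat_lit 0, nat_lit 3, nat_lit 0, nat_lit 3, nat_lit 4],
  [nat_lit 0, nat_lit 1, nat_lit 3, nat_lit 0, nat_lit 3, nat_lit 0, nat_lit 4, nat_lit 0, nat_lit 1, nat_lit 3, nat_lit 0, nat_lit 3, nat_lit 0, nat_lit 4, nat_lit 0, nat_lit 1, nat_lit 3, nat_lit 0, nat_lit 3, nat_lit 0, nat_lit 4],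
  [nat_lit 0, nat_lit 1, nat_lit 3, nat_lit 0, nat_lit 3, nat_lit 4, nat_lit 1, nat_lit 0, nat_lit 1, nat_lit 3, nat_lit 0, nat_lit 3, nat_lit 4, nat_lit 1, nat_lit 0, nat_lit 1, nat_lit 3, nat_lit 0, nat_lit 3, nat_lit 4, nat_lit 1],
  [nat_lit 0, nat_lit 1, nat_lit 4, nat_lit 1, nat_lit 3, nat_lit 0, nat_lit 3, nat_lit 0, nat_lit 1, nat_lit 4, nat_lit 1, nat_lit 3, nat_lit 0, nat_lit 3, nat_lit 0, nat_lit 1, nat_lit 4, nat_lit 1, nat_lit 3, nat_lit 0, nat_lit 3],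
  [nat_lit 0, nat_lit 3, nat_lit 0, nat_lit 3, nat_lit 4, nat_lit 1, nat_lit 4, nat_lit 0, nat_lit 3, nat_lit 0, nat_lit 3, nat_lit 4, nat_lit 1, nat_lit 4, nat_lit 0, nat_lit 3, nat_lit 0, nat_lit 3, nat_lit 4, nat_lit 1, nat_lit 4],
  [nat_lit 0, nat_lit 3, nat_lit 1, nat_lit 4, nat_lit 0, nat_lit 4, nat_lit 3, nat_lit 0, nat_lit 3, nat_lit 1, nat_lit 4, nat_lit 0, nat_lit 4, nat_lit 3, nat_lit 0, nat_lit 3, nat_lit 1, nat_lit 4, nat_lit 0, nat_lit 4, nat_lit 3]]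
noncomputable def Tb2d : List ℕ := [nat_lit 0x6da964621,
  nat_lit 0x50d6588e2]
noncomputable def Tb2 (k u : ℕ) : ℕ := Nat.land (Nat.shiftRight (nth (nat_lit 0) Tb2d k) (Nat.mul u (nat_lit 6))) (nat_lit 63)
noncomputable def Ib2d : List ℕ := [nat_lit 0x504,
  nat_lit 0x805]
noncomputable def Ib2 (k u : ℕ) : ℕ := Nat.land (Nat.shiftRight (nth (nat_lit 0) Ib2d k) (Nat.mul u (nat_lit 2))) (nat_lit 3)
noncomputable def Db2d : ℕ := nat_lit 0xda48d1400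
noncomputable def Db2 (u : ℕ) : ℕ := Nat.land (Nat.shiftRight Db2d (Nat.mul u (nat_lit 6))) (nat_lit 63)
noncomputable def Eb2 (_ : ℕ) : ℕ := nat_lit 0
noncomputable def Jb2 (_ : ℕ) : ℕ := nat_lit 0
noncomputable def Wb2 (_ : ℕ) : ℕ := nat_lit 0
noncomputable def RLb2 : List (List Rule) := [[.defn, .rel (nat_lit 0) (nat_lit 0) [nat_lit 0]],
  [.rel (nat_lit 2) (nat_lit 0) [nat_lit 1], .defn, .rel (nat_lit 10) (nat_lit 1) [nat_lit 0, nat_lit 1, nat_lit 0, nat_lit 1, nat_lit 0]]]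
noncomputable def cb2 : TCert2 := ⟨6, 6, 6, 2, 7, 15, 0, Tb2, Ib2, Db2, Eb2, Jb2, Wb2, [], RLb2⟩
noncomputable def Tb3d : List ℕ := [nat_lit 0xac9eaf753a84529af6bc3ca9777a5526eb48b8dbedd6ca250e4b67b3506c560,
  nat_lit 0x2da64f5356a53e30b7a652e234abb43a9173b95c28b6d9341ed342a0d92c760,
  nat_lit 0x1dd5ea6f8bd3c65d4cbcbc1acd287c565374a3d1a1b44b5daa856891d968161]
noncomputable def Tb3 (k u : ℕ) : ℕ := Nat.land (Nat.shiftRight (nth (nat_lit 0) Tb3d k) (Nat.mul u (nat_lit 9))) (nat_lit 511)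
noncomputable def Ib3d : List ℕ := [nat_lit 0x1881402c100824902120a,
  nat_lit 0x50240002828124140804b,
  nat_lit 0x6022e8280811000241441]
noncomputable def Ib3 (k u : ℕ) : ℕ := Nat.land (Nat.shiftRight (nth (nat_lit 0) Ib3d k) (Nat.mul u (nat_lit 3))) (nat_lit 7)
noncomputable def Db3d : ℕ := nat_lit 0x896f1dddbb9660cb993b2664ac8990a9f53ca6d4ca9852e8510820e418624c418720840c41000
noncomputable def Db3 (u : ℕ) : ℕ := Nat.land (Nat.shiftRight Db3d (Nat.mul u (nat_lit 11))) (nat_lit 2047)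
noncomputable def Eb3 (_ : ℕ) : ℕ := nat_lit 0
noncomputable def Jb3 (_ : ℕ) : ℕ := nat_lit 0
noncomputable def Wb3 (_ : ℕ) : ℕ := nat_lit 0
noncomputable def RLb3 : List (List Rule) := [[.rel (nat_lit 0) (nat_lit 0) [nat_lit 0], .defn, .sub (nat_lit 0) [] [], .rel (nat_lit 10) (nat_lit 0) [nat_lit 1, nat_lit 0, nat_lit 1, nat_lit 0, nat_lit 1], .rel (nat_lit 16) (nat_lit 0) [nat_lit 2, nat_lit 0, nat_lit 2, nat_lit 0, nat_lit 2, nat_lit 0, nat_lit 2], .rel (nat_lit 36) (nat_lit 2) [nat_lit 2, nat_lit 0, nat_lit 1, nat_lit 2, nat_lit 1, nat_lit 0, nat_lit 2, nat_lit 0, nat_lit 1, nat_lit 2, nat_lit 0, nat_lit 2, nat_lit 0, nat_lit 1], .rel (nat_lit 36) (nat_lit 4) [nat_lit 1, nat_lit 2, nat_lit 1, nat_lit 0, nat_lit 2, nat_lit 0, nat_lit 1, nat_lit 2, nat_lit 0, nat_lit 2, nat_lit 0, nat_lit 1, nat_lit 0, nat_lit 2]],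
  [.rel (nat_lit 2) (nat_lit 0) [nat_lit 1], .defn, .rel (nat_lit 10) (nat_lit 1) [nat_lit 0, nat_lit 1, nat_lit 0, nat_lit 1, nat_lit 0], .sub (nat_lit 2) [] [], .rel (nat_lit 12) (nat_lit 0) [nat_lit 2, nat_lit 1, nat_lit 2, nat_lit 1, nat_lit 2], .rel (nat_lit 37) (nat_lit 13) [nat_lit 0, nat_lit 2, nat_lit 0, nat_lit 2, nat_lit 1, nat_lit 0, nat_lit 2, nat_lit 0, nat_lit 1, nat_lit 2, nat_lit 1, nat_lit 0, nat_lit 2, nat_lit 0]],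
  [.rel (nat_lit 4) (nat_lit 0) [nat_lit 2], .defn, .rel (nat_lit 12) (nat_lit 1) [nat_lit 1, nat_lit 2, nat_lit 1, nat_lit 2, nat_lit 1], .rel (nat_lit 36) (nat_lit 6) [nat_lit 1, nat_lit 0, nat_lit 2, nat_lit 0, nat_lit 1, nat_lit 2, nat_lit 0, nat_lit 2, nat_lit 0, nat_lit 1, nat_lit 0, nat_lit 2, nat_lit 0, nat_lit 1], .rel (nat_lit 16) (nat_lit 1) [nat_lit 0, nat_lit 2, nat_lit 0, nat_lit 2, nat_lit 0, nat_lit 2, nat_lit 0], .rel (nat_lit 36) (nat_lit 9) [nat_lit 0, nat_lit 1, nat_lit 2, nat_lit 0, nat_lit 2, nat_lit 0, nat_lit 1, nat_lit 0, nat_lit 2, nat_lit 0, nat_lit 1, nat_lit 2, nat_lit 1, nat_lit 0]]]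
noncomputable def cb3 : TCert2 := ⟨28, 28, 28, 3, 31, 127, 0, Tb3, Ib3, Db3, Eb3, Jb3, Wb3, [[nat_lit 0],
  [nat_lit 1]], RLb3⟩
noncomputable def Tb4d : List ℕ := [nat_lit 0xaf9ebe4af8c7eb1bb2bdfaf76bdcb3bebd8af5eceeb3b6bc7af16bc4b3aabc0b3a6ce8aefcdd2aef2ce6b3946d3aed18cc1f58edaaebebaeaeb11c953097d4ae9eba543397c8b38ab9eb386ce032713cd826acdeb36eb905246cd95a81eba5ae15b9ae32b8bae2acd5ae22b87ae1ab84b346cd06a9accf4666b7eadeeb79b32d9adb32ab76adcaa7462855bbadbecc6adb0dc3766dfc142aeb69ada2b67ad96b64624eb634ef6cbead8ab60ad7ecb7b2dacb5ad6ecb3b2cacb1ad62cb0ad5df8275d6b5265fecaa79f5753b2a6b4fb2a1b5aad36ca472069a265ceca3ad22070b27eb47ad1ac9dad12b43b262c97b259a56b256c94b24ac8facfac8eb23615e6976a40b225a78acdac85b20d966acd2b3359f2c80acbe050b1eab2cb1ddd4aaca9e4caca2c71b1bac6d949ac6bb1aab24ac8a95c9cfec61ac7df3c94ca037b3c6b1d7ceac59ac72c55b15243bac62130b146b16a0b6c4eac56c4bac4ec49ac46445a866c42a08ec41ac3e020b0f6b0eb0e2c35ac2e61aa496c31ac26c2eb0aea12b0a6914b09eb06b086c1eac1670cb06eb04b05eb03a81ec10b036c0ab022b01b00ac00,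
  nat_lit 0xaba12ea5bb6be223a51ee1fae9efaf6dde64382bcdaf22cec7384fe5af097de571ebbfb39cfd0aafabba53248cbaad6bb342dabb07b44eda633d3c4b392ba91f598ca4f5ece35376a9fae6d2ce3a8acdfae5d9a1b3729d94ac6b8f528ecd8ae397a482dcfd3a756b89b350f984ef6cd2ae09584ae02b7f4e1d59cb331aa8562eb7869f56b856ecdc36302b71a71ab6e8db54aab316b6aada4eb2b3058967256694ad8d7927616b62b2f2cb97a36b5e529eb5bb2d1a7b4aaeb5872454aea966cafad52cadb2b1574669687c6622a517142ca6a93a160ad2947e719eb48b281e65ad1ec9e8a76b459526c9ab2662436dceb4075c2b3fb24ec90a906076acf2c8c714d855b229e52a60ec86acd6b346572c816d75d5aa5e9b79acba977acae233892ec7591aec72b1beb26b1b2b2585a2a27a586c66b192b218ccac5fac7a437ac76cf08ceab1cb15ec56853223da86e430ac5ac4f94b6b15b13641aa4a6619a50ac46b112b109c8eb0fb0fa620ac3ac3bb0e6c36a4c632a94a2b0a9c26c2fb0b2912ac1e814ac1ac24b08ac1fa82290cac12c18a05e90db04ec11ac0ac0bac06c05b00ec00,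
  nat_lit 0xbb83ef23b45ea2b9c6ec3f944e227acce63ba49df2b303e85f850db23905de4b3d6dc3f80dd89364eda42f46d622d57d44300fd246c15b94f751c92ec89e363297cb4b3aba2471d79f66f12b132a6b9852dcfd3ae4a694475d8c5625ab8e5342b8d57058a01f554b466a0acd47110d14e12b818279791464e4aa2f0d8b36a96483669dca4628ecc8adc57b66319fad65b5c95ada9b8f61fecc29e5d7bb6e725be4aaecbf5ab2a646a6acbab2e1d61ad7188a59f1b79ad61e6379a52af8e9ab54b2ba36b6666b518155589ad3d5656a22b4e9966b4a8d7d970ad21e66b285874855e1496a75c4b8a02c9b7616b41ad01d7259ea990761ab3e7232b3c89d5f43ace6c8bace1c4d95dec8781bdf567df6c8274deb31b1fab2eb1eec787569f4c6db2c7681bac73ac9e429911643b797a135b1a2c67ac86c6284a2c608d12b1db176c5b714e82c890a12d8482b18b14ab1694bec5080d27369c6eb138d1a23db11e526ac4261eac3e822b0fe033a846524b0eab0d98ae512ac2ac32a42ec30ac22b07b0aa41aa47ec25b08eb05b07280ca05ec19ac0ec15b052b02b03ab01b026c06b012c00,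
  nat_lit 0x7bc3ea0fa16ecaf844ee3ba42ed2f98ae737809d92345edeb3acee53f49de2aefd7c63f6ebbc23918d8aee6bb52b509d5aec0edf278d0b14f3ebaaaea4bbe66ce0caae8e5c8ae7d6dc5f16b9aae616b65ae2b94b374accae3ecdaae39a95b35d5c156dd5c2b3594a6632d6a03f42cd34e794867241581adfacceb3365a8ade13b4addd89db326b719a857b2b31d2af5e92b6a7a5acc4a1cacc371b5d9b66eacc0a999a92ad89badb2f6cbb5a36a5f5625683522eb5971ad3ae7a02b57562956752b1d85ad46cabad42b4f5d6d754ad3aca7b295c6ca1d6b4969ba799b28ab478191b736e5dd766e1ec9cad09d46520a993acfdf6facfac916d85e44a632b3b695ab3861eeb36b222b35b211b5da55567aacc5f3ab1fec7db1f2c798536b2a7506b29b1d2b27b1c1c68ac95d60ac92c69712eb21b196c6384f6b1eb179e52a0bec5cac72c5ab162b1bac62323b14e22b9ce692eac5662c8cc2c4cb12ab11b122b10b116c4388caa13b102b0e9c7ec3cac36c37b0d2b0a9c52c33a826b08b0b6619a48ab06b0a2c26ac16c20b076b04a82ec1aa45ec16ac0ac12b03ec0ca80ec07ac02c01]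
noncomputable def Tb4 (k u : ℕ) : ℕ := Nat.land (Nat.shiftRight (nth (nat_lit 0) Tb4d k) (Nat.mul u (nat_lit 14))) (nat_lit 16383)
noncomputable def Ib4d : List ℕ := [nat_lit 0x300000080010800008021000010800318c0001440000040802100061080a1110600000100000084613800008020008800040320000000001000100001084010840101060104c6080240040010408080010002109c2108401088a2080010800000404080200140108441080002040272c2000401080020810100401000813840a08021008010042c0802008406080201042108029,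
  nat_lit 0x108405800000840004400086008c4018c406004010c2000801008001840808000004071000008841014001b8223006010000000400800008842008c0084400002a000001040109003009011100020023004001042700000084400048008c01000410000000003104010802000801080410140100021000440046009043004202002300421000000042d0000108443004800840100429,
  nat_lit 0x8e02b46901c02100e301c020004200902289839008060220280481800006440200004bc02680001004200c00208031840038008038011800010402004220086502ee000023500a000000c00c40182010e8600400000a00000002801000010080120020084420040105882000210040100021009e42002030400180020940e02c201002001001984000800108026004010802008430,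
  nat_lit 0x100a2028603000200c281000638002000600008c1800918c04000400144008001014201802200001110420042300005081e708000384413800110c0008562208002006001000004000400108040000203200200405000000044400000700200886001421084401802008000004000844008041004200282000c0640420080210082048401080a1580200002100420684010042110401]
noncomputable def Ib4 (k u : ℕ) : ℕ := Nat.land (Nat.shiftRight (nth (nat_lit 0) Ib4d k) (Nat.mul u (nat_lit 5))) (nat_lit 31)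
noncomputable def Db4d : ℕ := nat_lit 0x7391ce1ce72f90be32f89be1ef7cbdd2f70bdb6f60bd72b35ac86b1cac52b10ac26b00abfeafdabf2af3abc2ae9ab9ead7ab42acdab0eac19af26b89ac26ab9a9e6a59a726949a3e68a99fe67899b666b998e6629976653992a64098fe63d98ee63a98e663698c262c98a2625988261c9862610882620688061fd87ee1f887b21e4878e1e1877e1d887221c7871a1c586f21b986c21ab86aa1a986961a4868219c8652190863618c862e189862218085f217985ca16d85b2167858a161858215f8571d527545d48751dd46750dd3f74f9d3c74edd3a74d1d2a74a5d277489d217481d1f7475d1c7461d157441d0c742dd067409d0173fdcfd73edcfa73e1cf273c5cef7399ce37389cdb7361cd773558d163418cc631d8c662f18ba62e58b062b58ab62a18a7628189f6279899625d895624d8906221887621988561f187b61e587661d587461cd87161c146f518d462518145a5165458515d455515144e51314475111443510944150f943d50f143b50e543850dd43640b102b40a90294091023408901e407501b4065018405d0164050c133044c103038c0c302cc0a30248062014804100c000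
noncomputable def Db4 (u : ℕ) : ℕ := Nat.land (Nat.shiftRight Db4d (Nat.mul u (nat_lit 14))) (nat_lit 16383)
noncomputable def Eb4td : ℕ := nat_lit 0x3473938
noncomputable def Eb4t (u : ℕ) : ℕ := Nat.land (Nat.shiftRight Eb4td (Nat.mul u (nat_lit 13))) (nat_lit 8191)
noncomputable def Jb4td : ℕ := nat_lit 0x2b34
noncomputable def Jb4t (u : ℕ) : ℕ := Nat.land (Nat.shiftRight Jb4td (Nat.mul u (nat_lit 7))) (nat_lit 127)
noncomputable def Wb4td : ℕ := nat_lit 0xe78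
noncomputable def Wb4t (u : ℕ) : ℕ := Nat.land (Nat.shiftRight Wb4td (Nat.mul u (nat_lit 6))) (nat_lit 63)
@[irreducible] noncomputable def Eb4 (a : ℕ) : ℕ := force (Nat.sub a (nat_lit 240)) Eb4t
@[irreducible] noncomputable def Jb4 (a : ℕ) : ℕ := force (Nat.sub a (nat_lit 240)) Jb4t
@[irreducible] noncomputable def Wb4 (a : ℕ) : ℕ := force (Nat.sub a (nat_lit 240)) Wb4t
noncomputable def RLb4 : List (List Rule) := [[.rel (nat_lit 0) (nat_lit 0) [nat_lit 0], .defn, .rel (nat_lit 18) (nat_lit 0) [nat_lit 3, nat_lit 0, nat_lit 3, nat_lit 0, nat_lit 3, nat_lit 0, nat_lit 3], .rel (nat_lit 10) (nat_lit 0) [nat_lit 1, nat_lit 0, nat_lit 1, nat_lit 0, nat_lit 1], .rel (nat_lit 16) (nat_lit 0) [nat_lit 2, nat_lit 0, nat_lit 2, nat_lit 0, nat_lit 2, nat_lit 0, nat_lit 2], .rel (nat_lit 30) (nat_lit 0) [nat_lit 2, nat_lit 1, nat_lit 3, nat_lit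 1, nat_lit 2, nat_lit 0, nat_lit 2, nat_lit 3, nat_lit 1, nat_lit 2, nat_lit 3], .rel (nat_lit 22) (nat_lit 0) [nat_lit 2, nat_lit 3, nat_lit 2, nat_lit 3, nat_lit 0, nat_lit 2, nat_lit 3, nat_lit 2, nat_lit 3], .rel (nat_lit 30) (nat_lit 6) [nat_lit 2, nat_lit 3, nat_lit 1, nat_lit 2, nat_lit 3, nat_lit 0, nat_lit 2, nat_lit 1, nat_lit 3, nat_lit 1, nat_lit 2], .rel (nat_lit 32) (nat_lit 9) [nat_lit 3, nat_lit 2, nat_lit 0, nat_lit 2, nat_lit 3, nat_lit 0, nat_lit 2, nat_lit 3, nat_lit 0, nat_lit 2, nat_lit 3], .sub (nat_lit 0) [] [], .rel (nat_lit 23) (nat_lit 4) [nat_lit 3, nat_lit 2, nat_lit 3, nat_lit 2, nat_lit 0, nat_lit 3, nat_lit 2, nat_lit 3, nat_lit 2], .rel (nat_lit 31) (nat_lit 11) [nat_lit 3, nat_lit 2, nat_lit 1, nat_lit 3, nat_lit 2, nat_lit 0, nat_lit 2, nat_lit 1, nat_lit 3, nat_lit 1, nat_lit 2], .rel (nat_lit 33) (nat_lit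 5) [nat_lit 3, nat_lit 2, nat_lit 0, nat_lit 3, nat_lit 2, nat_lit 0, nat_lit 2, nat_lit 3, nat_lit 0, nat_lit 3, nat_lit 2], .rel (nat_lit 36) (nat_lit 2) [nat_lit 2, nat_lit 0, nat_lit 1, nat_lit 2, nat_lit 1, nat_lit 0, nat_lit 2, nat_lit 0, nat_lit 1, nat_lit 2, nat_lit 0, nat_lit 2, nat_lit 0, nat_lit 1], .rel (nat_lit 36) (nat_lit 8) [nat_lit 2, nat_lit 0, nat_lit 1, nat_lit 2, nat_lit 0, nat_lit 2, nat_lit 0, nat_lit 1, nat_lit 0, nat_lit 2, nat_lit 0, nat_lit 1, nat_lit 2, nat_lit 1]],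
  [.rel (nat_lit 2) (nat_lit 0) [nat_lit 1], .defn, .rel (nat_lit 10) (nat_lit 1) [nat_lit 0, nat_lit 1, nat_lit 0, nat_lit 1, nat_lit 0], .rel (nat_lit 14) (nat_lit 0) [nat_lit 3, nat_lit 1, nat_lit 3, nat_lit 1, nat_lit 3], .rel (nat_lit 12) (nat_lit 0) [nat_lit 2, nat_lit 1, nat_lit 2, nat_lit 1, nat_lit 2], .rel (nat_lit 24) (nat_lit 2) [nat_lit 3, nat_lit 2, nat_lit 1, nat_lit 3, nat_lit 1, nat_lit 2, nat_lit 3, nat_lit 1, nat_lit 2], .rel (nat_lit 24) (nat_lit 7) [nat_lit 2, nat_lit 3, nat_lit 1, nat_lit 2, nat_lit 1, nat_lit 3, nat_lit 2, nat_lit 1, nat_lit 3], .rel (nat_lit 30) (nat_lit 2) [nat_lit 3, nat_lit 1, nat_lit 2, nat_lit 0, nat_lit 2, nat_lit 3, nat_lit 1, nat_lit 2, nat_lit 3, nat_lit 0, nat_lit 2], .rel (nat_lit 30) (nat_lit 4) [nat_lit 2, nat_lit 0, nat_lit 2, nat_lit 3, nat_lit 1, nat_lit 2, nat_lit 3, nat_lit 0,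 nat_lit 2, nat_lit 1, nat_lit 3], .sub (nat_lit 2) [] [], .rel (nat_lit 24) (nat_lit 0) [nat_lit 2, nat_lit 1, nat_lit 3, nat_lit 2, nat_lit 1, nat_lit 3, nat_lit 1, nat_lit 2, nat_lit 3], .rel (nat_lit 26) (nat_lit 0) [nat_lit 2, nat_lit 3, nat_lit 2, nat_lit 3, nat_lit 1, nat_lit 2, nat_lit 3, nat_lit 2, nat_lit 3], .rel (nat_lit 30) (nat_lit 9) [nat_lit 2, nat_lit 3, nat_lit 0, nat_lit 2, nat_lit 1, nat_lit 3, nat_lit 1, nat_lit 2, nat_lit 0, nat_lit 2, nat_lit 3], .rel (nat_lit 31) (nat_lit 2) [nat_lit 3, nat_lit 2, nat_lit 0, nat_lit 2, nat_lit 1, nat_lit 3, nat_lit 1, nat_lit 2, nat_lit 0, nat_lit 3, nat_lit 2], .rel (nat_lit 36) (nat_lit 5) [nat_lit 2, nat_lit 1, nat_lit 0, nat_lit 2, nat_lit 0, nat_lit 1, nat_lit 2, nat_lit 0, nat_lit 2, nat_lit 0, nat_lit 1, nat_lit 0, nat_lit 2, nat_lit 0]],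
  [.rel (nat_lit 4) (nat_lit 0) [nat_lit 2], .defn, .rel (nat_lit 12) (nat_lit 1) [nat_lit 1, nat_lit 2, nat_lit 1, nat_lit 2, nat_lit 1], .rel (nat_lit 16) (nat_lit 1) [nat_lit 0, nat_lit 2, nat_lit 0, nat_lit 2, nat_lit 0, nat_lit 2, nat_lit 0], .rel (nat_lit 20) (nat_lit 0) [nat_lit 3, nat_lit 2, nat_lit 3, nat_lit 2, nat_lit 3, nat_lit 2, nat_lit 3], .rel (nat_lit 22) (nat_lit 3) [nat_lit 3, nat_lit 0, nat_lit 2, nat_lit 3, nat_lit 2, nat_lit 3, nat_lit 0, nat_lit 2, nat_lit 3], .rel (nat_lit 24) (nat_lit 1) [nat_lit 1, nat_lit 3, nat_lit 2, nat_lit 1, nat_lit 3, nat_lit 1, nat_lit 2, nat_lit 3, nat_lit 1], .rel (nat_lit 36) (nat_lit 6) [nat_lit 1, nat_lit 0, nat_lit 2, nat_lit 0, nat_lit 1, nat_lit 2, nat_lit 0, nat_lit 2, nat_lit 0, nat_lit 1, nat_lit 0, nat_lit 2, nat_lit 0, nat_lit 1], .rel (nat_lit 23) (nat_lit 3) [nat_lit 0,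 nat_lit 3, nat_lit 2, nat_lit 3, nat_lit 2, nat_lit 0, nat_lit 3, nat_lit 2, nat_lit 3], .rel (nat_lit 22) (nat_lit 1) [nat_lit 3, nat_lit 2, nat_lit 3, nat_lit 0, nat_lit 2, nat_lit 3, nat_lit 2, nat_lit 3, nat_lit 0], .rel (nat_lit 23) (nat_lit 1) [nat_lit 3, nat_lit 2, nat_lit 0, nat_lit 3, nat_lit 2, nat_lit 3, nat_lit 2, nat_lit 0, nat_lit 3], .rel (nat_lit 24) (nat_lit 8) [nat_lit 3, nat_lit 1, nat_lit 2, nat_lit 1, nat_lit 3, nat_lit 2, nat_lit 1, nat_lit 3, nat_lit 1], .rel (nat_lit 28) (nat_lit 1) [nat_lit 0, nat_lit 3, nat_lit 2, nat_lit 3, nat_lit 0, nat_lit 2, nat_lit 0, nat_lit 3, nat_lit 2, nat_lit 3, nat_lit 0], .rel (nat_lit 32) (nat_lit 1) [nat_lit 3, nat_lit 0, nat_lit 2, nat_lit 3, nat_lit 0, nat_lit 2, nat_lit 3, nat_lit 0, nat_lit 3, nat_lit 2, nat_lit 0], .rel (nat_lit 36) (nat_lit 12) [nat_lit 0, nat_lit 2, nat_lit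 0, nat_lit 1, nat_lit 0, nat_lit 2, nat_lit 0, nat_lit 1, nat_lit 2, nat_lit 1, nat_lit 0, nat_lit 2, nat_lit 0, nat_lit 1], .rel (nat_lit 37) (nat_lit 2) [nat_lit 1, nat_lit 0, nat_lit 2, nat_lit 0, nat_lit 1, nat_lit 2, nat_lit 1, nat_lit 0, nat_lit 2, nat_lit 0, nat_lit 1, nat_lit 0, nat_lit 2, nat_lit 0], .sub (nat_lit 4) [] [], .rel (nat_lit 24) (nat_lit 4) [nat_lit 1, nat_lit 3, nat_lit 1, nat_lit 2, nat_lit 3, nat_lit 1, nat_lit 2, nat_lit 1, nat_lit 3], .rel (nat_lit 30) (nat_lit 1) [nat_lit 1, nat_lit 3, nat_lit 1, nat_lit 2, nat_lit 0, nat_lit 2, nat_lit 3, nat_lit 1, nat_lit 2, nat_lit 3, nat_lit 0], .rel (nat_lit 30) (nat_lit 7) [nat_lit 3, nat_lit 1, nat_lit 2, nat_lit 3, nat_lit 0, nat_lit 2, nat_lit 1, nat_lit 3, nat_lit 1, nat_lit 2, nat_lit 0], .rel (nat_lit 31) (nat_lit 1) [nat_lit 1, nat_lit 3, nat_lit 2, nat_lit 0,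 nat_lit 2, nat_lit 1, nat_lit 3, nat_lit 1, nat_lit 2, nat_lit 0, nat_lit 3], .rel (nat_lit 31) (nat_lit 6) [nat_lit 1, nat_lit 3, nat_lit 1, nat_lit 2, nat_lit 0, nat_lit 3, nat_lit 2, nat_lit 1, nat_lit 3, nat_lit 2, nat_lit 0], .rel (nat_lit 31) (nat_lit 10) [nat_lit 0, nat_lit 3, nat_lit 2, nat_lit 1, nat_lit 3, nat_lit 2, nat_lit 0, nat_lit 2, nat_lit 1, nat_lit 3, nat_lit 1], .rel (nat_lit 32) (nat_lit 4) [nat_lit 3, nat_lit 0, nat_lit 2, nat_lit 3, nat_lit 0, nat_lit 3, nat_lit 2, nat_lit 0, nat_lit 2, nat_lit 3, nat_lit 0], .rel (nat_lit 36) (nat_lit 3) [nat_lit 0, nat_lit 1, nat_lit 2, nat_lit 1, nat_lit 0, nat_lit 2, nat_lit 0, nat_lit 1, nat_lit 2, nat_lit 0, nat_lit 2, nat_lit 0, nat_lit 1, nat_lit 0], .rel (nat_lit 36) (nat_lit 9) [nat_lit 0, nat_lit 1, nat_lit 2, nat_lit 0, nat_lit 2, nat_lit 0, nat_lit 1, nat_lit 0, nat_lit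 2, nat_lit 0, nat_lit 1, nat_lit 2, nat_lit 1, nat_lit 0]],
  [.rel (nat_lit 6) (nat_lit 0) [nat_lit 3], .defn, .rel (nat_lit 14) (nat_lit 1) [nat_lit 1, nat_lit 3, nat_lit 1, nat_lit 3, nat_lit 1], .rel (nat_lit 18) (nat_lit 1) [nat_lit 0, nat_lit 3, nat_lit 0, nat_lit 3, nat_lit 0, nat_lit 3, nat_lit 0], .rel (nat_lit 20) (nat_lit 1) [nat_lit 2, nat_lit 3, nat_lit 2, nat_lit 3, nat_lit 2, nat_lit 3, nat_lit 2], .rel (nat_lit 22) (nat_lit 2) [nat_lit 2, nat_lit 3, nat_lit 0, nat_lit 2, nat_lit 3, nat_lit 2, nat_lit 3, nat_lit 0, nat_lit 2], .rel (nat_lit 30) (nat_lit 3) [nat_lit 1, nat_lit 2, nat_lit 0, nat_lit 2, nat_lit 3, nat_lit 1, nat_lit 2, nat_lit 3, nat_lit 0, nat_lit 2, nat_lit 1], .rel (nat_lit 32) (nat_lit 2) [nat_lit 0, nat_lit 2, nat_lit 3, nat_lit 0, nat_lit 2, nat_lit 3, nat_lit 0, nat_lit 3, nat_lit 2, nat_lit 0, nat_lit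 2], .rel (nat_lit 30) (nat_lit 8) [nat_lit 1, nat_lit 2, nat_lit 3, nat_lit 0, nat_lit 2, nat_lit 1, nat_lit 3, nat_lit 1, nat_lit 2, nat_lit 0, nat_lit 2], .rel (nat_lit 24) (nat_lit 3) [nat_lit 2, nat_lit 1, nat_lit 3, nat_lit 1, nat_lit 2, nat_lit 3, nat_lit 1, nat_lit 2, nat_lit 1], .rel (nat_lit 24) (nat_lit 9) [nat_lit 1, nat_lit 2, nat_lit 1, nat_lit 3, nat_lit 2, nat_lit 1, nat_lit 3, nat_lit 1, nat_lit 2], .rel (nat_lit 31) (nat_lit 0) [nat_lit 2, nat_lit 1, nat_lit 3, nat_lit 2, nat_lit 0, nat_lit 2, nat_lit 1, nat_lit 3, nat_lit 1, nat_lit 2, nat_lit 0], .rel (nat_lit 23) (nat_lit 0) [nat_lit 2, nat_lit 3, nat_lit 2, nat_lit 0, nat_lit 3, nat_lit 2, nat_lit 3, nat_lit 2, nat_lit 0], .rel (nat_lit 24) (nat_lit 6) [nat_lit 1, nat_lit 2, nat_lit 3, nat_lit 1, nat_lit 2, nat_lit 1, nat_lit 3, nat_lit 2, nat_lit 1], .rel (nat_lit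 27) (nat_lit 2) [nat_lit 2, nat_lit 1, nat_lit 3, nat_lit 2, nat_lit 3, nat_lit 2, nat_lit 1, nat_lit 3, nat_lit 2], .rel (nat_lit 34) (nat_lit 2) [nat_lit 2, nat_lit 0, nat_lit 3, nat_lit 0, nat_lit 2, nat_lit 3, nat_lit 2, nat_lit 0, nat_lit 3, nat_lit 0, nat_lit 2], .rel (nat_lit 34) (nat_lit 5) [nat_lit 0, nat_lit 2, nat_lit 3, nat_lit 2, nat_lit 0, nat_lit 3, nat_lit 0, nat_lit 2, nat_lit 3, nat_lit 2, nat_lit 0]]]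
noncomputable def cb4 : TCert2 := ⟨240, 240, 242, 4, 255, 1023, 1, Tb4, Ib4, Db4, Eb4, Jb4, Wb4, [[nat_lit 0],
  [nat_lit 1],
  [nat_lit 2]], RLb4⟩
noncomputable def Tb5d : List BT := [Tb5d0, Tb5d1, Tb5d2, Tb5d3, Tb5d4]
noncomputable def Tb5 (k u : ℕ) : ℕ := force (Nat.shiftRight u (nat_lit 7)) fun j => Nat.land (Nat.shiftRight ((nth (BT.leaf (nat_lit 0)) Tb5d k).get j) (Nat.mul (Nat.land u (nat_lit 127)) (nat_lit 28))) (nat_lit 268435455)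
noncomputable def Ib5d : List BT := [Ib5d0, Ib5d1, Ib5d2, Ib5d3, Ib5d4]
noncomputable def Ib5 (k u : ℕ) : ℕ := force (Nat.shiftRight u (nat_lit 9)) fun j => Nat.land (Nat.shiftRight ((nth (BT.leaf (nat_lit 0)) Ib5d k).get j) (Nat.mul (Nat.land u (nat_lit 511)) (nat_lit 7))) (nat_lit 127)
noncomputable def Db5 (u : ℕ) : ℕ := force (Nat.shiftRight u (nat_lit 7)) fun j => Nat.land (Nat.shiftRight (Db5d.get j) (Nat.mul (Nat.land u (nat_lit 127)) (nat_lit 23))) (nat_lit 8388607)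
noncomputable def Eb5t (u : ℕ) : ℕ := force (Nat.shiftRight u (nat_lit 7)) fun j => Nat.land (Nat.shiftRight (Eb5td.get j) (Nat.mul (Nat.land u (nat_lit 127)) (nat_lit 28))) (nat_lit 268435455)
noncomputable def Jb5t (u : ℕ) : ℕ := force (Nat.shiftRight u (nat_lit 8)) fun j => Nat.land (Nat.shiftRight (Jb5td.get j) (Nat.mul (Nat.land u (nat_lit 255)) (nat_lit 9))) (nat_lit 511)
noncomputable def Wb5t (u : ℕ) : ℕ := force (Nat.shiftRight u (nat_lit 8)) fun j => Nat.land (Nat.shiftRight (Wb5td.get j) (Nat.mul (Nat.land u (nat_lit 255)) (nat_lit 16))) (nat_lit 65535)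
@[irreducible] noncomputable def Eb5 (a : ℕ) : ℕ := force (Nat.sub a (nat_lit 22275)) Eb5t
@[irreducible] noncomputable def Jb5 (a : ℕ) : ℕ := force (Nat.sub a (nat_lit 22275)) Jb5t
@[irreducible] noncomputable def Wb5 (a : ℕ) : ℕ := force (Nat.sub a (nat_lit 22275)) Wb5t
noncomputable def RLb5 : List (List Rule) := [[.rel (nat_lit 0) (nat_lit 0) [nat_lit 0], .defn, .rel (nat_lit 38) (nat_lit 1) [nat_lit 1, nat_lit 4, nat_lit 0, nat_lit 1, nat_lit 4], .rel (nat_lit 39) (nat_lit 1) [nat_lit 4, nat_lit 1, nat_lit 0, nat_lit 4, nat_lit 1], .rel (nat_lit 10) (nat_lit 0) [nat_lit 1, nat_lit 0, nat_lit 1, nat_lit 0, nat_lit 1], .rel (nat_lit 40) (nat_lit 2) [nat_lit 2, nat_lit 4, nat_lit 2, nat_lit 0, nat_lit 2, nat_lit 4, nat_lit 2], .rel (nat_lit 16) (nat_lit 0) [nat_lit 2, nat_lit 0, nat_lit 2, nat_lit 0, nat_lit 2, nat_lit 0, nat_lit 2],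 .rel (nat_lit 18) (nat_lit 0) [nat_lit 3, nat_lit 0, nat_lit 3, nat_lit 0, nat_lit 3, nat_lit 0, nat_lit 3], .rel (nat_lit 23) (nat_lit 4) [nat_lit 3, nat_lit 2, nat_lit 3, nat_lit 2, nat_lit 0, nat_lit 3, nat_lit 2, nat_lit 3, nat_lit 2], .rel (nat_lit 42) (nat_lit 3) [nat_lit 2, nat_lit 3, nat_lit 4, nat_lit 3, nat_lit 2, nat_lit 3, nat_lit 2, nat_lit 4, nat_lit 2, nat_lit 3], .rel (nat_lit 50) (nat_lit 11) [nat_lit 3, nat_lit 4, nat_lit 1, nat_lit 2, nat_lit 3, nat_lit 0, nat_lit 2, nat_lit 0, nat_lit 3, nat_lit 1, nat_lit 4, nat_lit 3], .rel (nat_lit 54) (nat_lit 0) [nat_lit 4, nat_lit 0, nat_lit 4, nat_lit 0, nat_lit 4], .rel (nat_lit 30) (nat_lit 6) [nat_lit 2, nat_lit 3, nat_lit 1, nat_lit 2, nat_lit 3, nat_lit 0, nat_lit 2, nat_lit 1, nat_lit 3, nat_lit 1, nat_lit 2], .rel (nat_lit 52) (nat_lit 3) [nat_lit 3, nat_lit 1, nat_lit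 4, nat_lit 3, nat_lit 2, nat_lit 0, nat_lit 2, nat_lit 0, nat_lit 3, nat_lit 4, nat_lit 1, nat_lit 3], .rel (nat_lit 22) (nat_lit 0) [nat_lit 2, nat_lit 3, nat_lit 2, nat_lit 3, nat_lit 0, nat_lit 2, nat_lit 3, nat_lit 2, nat_lit 3], .rel (nat_lit 32) (nat_lit 3) [nat_lit 2, nat_lit 3, nat_lit 0, nat_lit 2, nat_lit 3, nat_lit 0, nat_lit 3, nat_lit 2, nat_lit 0, nat_lit 2, nat_lit 3], .rel (nat_lit 30) (nat_lit 0) [nat_lit 2, nat_lit 1, nat_lit 3, nat_lit 1, nat_lit 2, nat_lit 0, nat_lit 2, nat_lit 3, nat_lit 1, nat_lit 2, nat_lit 3], .rel (nat_lit 32) (nat_lit 9) [nat_lit 3, nat_lit 2, nat_lit 0, nat_lit 2, nat_lit 3, nat_lit 0, nat_lit 2, nat_lit 3, nat_lit 0, nat_lit 2, nat_lit 3], .rel (nat_lit 46) (nat_lit 3) [nat_lit 2, nat_lit 1, nat_lit 4, nat_lit 0, nat_lit 1, nat_lit 2, nat_lit 0, nat_lit 2, nat_lit 4, nat_lit 0, nat_lit 2], .rel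 (nat_lit 43) (nat_lit 7) [nat_lit 3, nat_lit 2, nat_lit 4, nat_lit 2, nat_lit 3, nat_lit 2, nat_lit 3, nat_lit 4, nat_lit 3, nat_lit 2], .rel (nat_lit 48) (nat_lit 3) [nat_lit 3, nat_lit 2, nat_lit 4, nat_lit 2, nat_lit 3, nat_lit 0, nat_lit 3, nat_lit 2, nat_lit 4, nat_lit 2, nat_lit 3], .rel (nat_lit 51) (nat_lit 1) [nat_lit 3, nat_lit 4, nat_lit 1, nat_lit 3, nat_lit 0, nat_lit 2, nat_lit 0, nat_lit 3, nat_lit 2, nat_lit 1, nat_lit 4, nat_lit 3], .rel (nat_lit 28) (nat_lit 0) [nat_lit 2, nat_lit 0, nat_lit 3, nat_lit 2, nat_lit 3, nat_lit 0, nat_lit 2, nat_lit 0, nat_lit 3, nat_lit 2, nat_lit 3], .rel (nat_lit 32) (nat_lit 0) [nat_lit 2, nat_lit 3, nat_lit 0, nat_lit 2, nat_lit 3, nat_lit 0, nat_lit 2, nat_lit 3, nat_lit 0, nat_lit 3, nat_lit 2], .rel (nat_lit 33) (nat_lit 2) [nat_lit 3, nat_lit 2, nat_lit 0, nat_lit 3, nat_lit 2, nat_lit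 0, nat_lit 3, nat_lit 2, nat_lit 0, nat_lit 2, nat_lit 3], .rel (nat_lit 58) (nat_lit 0) [nat_lit 2, nat_lit 4, nat_lit 0, nat_lit 2, nat_lit 4, nat_lit 0, nat_lit 2, nat_lit 4, nat_lit 0, nat_lit 2, nat_lit 4, nat_lit 0, nat_lit 2, nat_lit 4], .rel (nat_lit 36) (nat_lit 4) [nat_lit 1, nat_lit 2, nat_lit 1, nat_lit 0, nat_lit 2, nat_lit 0, nat_lit 1, nat_lit 2, nat_lit 0, nat_lit 2, nat_lit 0, nat_lit 1, nat_lit 0, nat_lit 2], .rel (nat_lit 31) (nat_lit 11) [nat_lit 3, nat_lit 2, nat_lit 1, nat_lit 3, nat_lit 2, nat_lit 0, nat_lit 2, nat_lit 1, nat_lit 3, nat_lit 1, nat_lit 2], .rel (nat_lit 50) (nat_lit 4) [nat_lit 2, nat_lit 0, nat_lit 3, nat_lit 1, nat_lit 4, nat_lit 3, nat_lit 0, nat_lit 3, nat_lit 4, nat_lit 1, nat_lit 2, nat_lit 3], .rel (nat_lit 28) (nat_lit 2) [nat_lit 3, nat_lit 2, nat_lit 3, nat_lit 0, nat_lit 2, nat_lit 0, nat_lit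 3, nat_lit 2, nat_lit 3, nat_lit 0, nat_lit 2], .rel (nat_lit 34) (nat_lit 4) [nat_lit 3, nat_lit 0, nat_lit 2, nat_lit 3, nat_lit 2, nat_lit 0, nat_lit 3, nat_lit 0, nat_lit 2, nat_lit 3, nat_lit 2], .rel (nat_lit 36) (nat_lit 2) [nat_lit 2, nat_lit 0, nat_lit 1, nat_lit 2, nat_lit 1, nat_lit 0, nat_lit 2, nat_lit 0, nat_lit 1, nat_lit 2, nat_lit 0, nat_lit 2, nat_lit 0, nat_lit 1], .rel (nat_lit 51) (nat_lit 6) [nat_lit 2, nat_lit 0, nat_lit 3, nat_lit 2, nat_lit 1, nat_lit 4, nat_lit 3, nat_lit 0, nat_lit 3, nat_lit 4, nat_lit 1, nat_lit 3], .rel (nat_lit 34) (nat_lit 0) [nat_lit 2, nat_lit 3, nat_lit 2, nat_lit 0, nat_lit 3, nat_lit 0, nat_lit 2, nat_lit 3, nat_lit 2, nat_lit 0, nat_lit 3], .rel (nat_lit 53) (nat_lit 1) [nat_lit 2, nat_lit 0, nat_lit 2, nat_lit 3, nat_lit 4, nat_lit 1, nat_lit 3, nat_lit 0, nat_lit 3, nat_lit 1, nat_lit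 4, nat_lit 3], .rel (nat_lit 36) (nat_lit 13) [nat_lit 2, nat_lit 0, nat_lit 1, nat_lit 0, nat_lit 2, nat_lit 0, nat_lit 1, nat_lit 2, nat_lit 1, nat_lit 0, nat_lit 2, nat_lit 0, nat_lit 1, nat_lit 2], .rel (nat_lit 52) (nat_lit 11) [nat_lit 3, nat_lit 4, nat_lit 1, nat_lit 3, nat_lit 0, nat_lit 3, nat_lit 1, nat_lit 4, nat_lit 3, nat_lit 2, nat_lit 0, nat_lit 2], .rel (nat_lit 36) (nat_lit 10) [nat_lit 1, nat_lit 2, nat_lit 0, nat_lit 2, nat_lit 0, nat_lit 1, nat_lit 0, nat_lit 2, nat_lit 0, nat_lit 1, nat_lit 2, nat_lit 1, nat_lit 0, nat_lit 2], .rel (nat_lit 37) (nat_lit 1) [nat_lit 2, nat_lit 1, nat_lit 0, nat_lit 2, nat_lit 0, nat_lit 1, nat_lit 2, nat_lit 1, nat_lit 0, nat_lit 2, nat_lit 0, nat_lit 1, nat_lit 0, nat_lit 2], .rel (nat_lit 53) (nat_lit 9) [nat_lit 3, nat_lit 1, nat_lit 4, nat_lit 3, nat_lit 0, nat_lit 2, nat_lit 0,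 nat_lit 2, nat_lit 3, nat_lit 4, nat_lit 1, nat_lit 3], .rel (nat_lit 36) (nat_lit 0) [nat_lit 1, nat_lit 0, nat_lit 2, nat_lit 0, nat_lit 1, nat_lit 2, nat_lit 1, nat_lit 0, nat_lit 2, nat_lit 0, nat_lit 1, nat_lit 2, nat_lit 0, nat_lit 2], .rel (nat_lit 50) (nat_lit 6) [nat_lit 3, nat_lit 1, nat_lit 4, nat_lit 3, nat_lit 0, nat_lit 3, nat_lit 4, nat_lit 1, nat_lit 2, nat_lit 3, nat_lit 0, nat_lit 2], .rel (nat_lit 46) (nat_lit 1) [nat_lit 2, nat_lit 0, nat_lit 2, nat_lit 1, nat_lit 4, nat_lit 0, nat_lit 1, nat_lit 2, nat_lit 0, nat_lit 2, nat_lit 4], .rel (nat_lit 33) (nat_lit 5) [nat_lit 3, nat_lit 2, nat_lit 0, nat_lit 3, nat_lit 2, nat_lit 0, nat_lit 2, nat_lit 3, nat_lit 0, nat_lit 3, nat_lit 2], .rel (nat_lit 44) (nat_lit 1) [nat_lit 1, nat_lit 2, nat_lit 0, nat_lit 2, nat_lit 4, nat_lit 2, nat_lit 0, nat_lit 2, nat_lit 0, nat_lit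 1, nat_lit 4], .rel (nat_lit 33) (nat_lit 8) [nat_lit 3, nat_lit 2, nat_lit 0, nat_lit 2, nat_lit 3, nat_lit 0, nat_lit 3, nat_lit 2, nat_lit 0, nat_lit 3, nat_lit 2], .rel (nat_lit 36) (nat_lit 8) [nat_lit 2, nat_lit 0, nat_lit 1, nat_lit 2, nat_lit 0, nat_lit 2, nat_lit 0, nat_lit 1, nat_lit 0, nat_lit 2, nat_lit 0, nat_lit 1, nat_lit 2, nat_lit 1], .rel (nat_lit 31) (nat_lit 5) [nat_lit 2, nat_lit 1, nat_lit 3, nat_lit 1, nat_lit 2, nat_lit 0, nat_lit 3, nat_lit 2, nat_lit 1, nat_lit 3, nat_lit 2], .rel (nat_lit 47) (nat_lit 10) [nat_lit 4, nat_lit 2, nat_lit 0, nat_lit 2, nat_lit 1, nat_lit 0, nat_lit 4, nat_lit 1, nat_lit 2, nat_lit 0, nat_lit 2], .rel (nat_lit 32) (nat_lit 6) [nat_lit 2, nat_lit 3, nat_lit 0, nat_lit 3, nat_lit 2, nat_lit 0, nat_lit 2, nat_lit 3, nat_lit 0, nat_lit 2, nat_lit 3], .rel (nat_lit 53) (nat_lit 3) [nat_lit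 2, nat_lit 3, nat_lit 4, nat_lit 1, nat_lit 3, nat_lit 0, nat_lit 3, nat_lit 1, nat_lit 4, nat_lit 3, nat_lit 0, nat_lit 2], .rel (nat_lit 59) (nat_lit 2) [nat_lit 4, nat_lit 2, nat_lit 0, nat_lit 4, nat_lit 2, nat_lit 0, nat_lit 4, nat_lit 2, nat_lit 0, nat_lit 4, nat_lit 2, nat_lit 0, nat_lit 4, nat_lit 2], .rel (nat_lit 93) (nat_lit 6) [nat_lit 4, nat_lit 3, nat_lit 0, nat_lit 3, nat_lit 0, nat_lit 1, nat_lit 0, nat_lit 4, nat_lit 3, nat_lit 0, nat_lit 3, nat_lit 0, nat_lit 1, nat_lit 0, nat_lit 4, nat_lit 3, nat_lit 0, nat_lit 3, nat_lit 0, nat_lit 1], .rel (nat_lit 45) (nat_lit 10) [nat_lit 4, nat_lit 1, nat_lit 0, nat_lit 2, nat_lit 0, nat_lit 2, nat_lit 4, nat_lit 2, nat_lit 0, nat_lit 2, nat_lit 1], .rel (nat_lit 47) (nat_lit 8) [nat_lit 2, nat_lit 0, nat_lit 4, nat_lit 2, nat_lit 0, nat_lit 2, nat_lit 1, nat_lit 0, nat_lit 4,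 nat_lit 1, nat_lit 2], .rel (nat_lit 51) (nat_lit 8) [nat_lit 3, nat_lit 2, nat_lit 1, nat_lit 4, nat_lit 3, nat_lit 0, nat_lit 3, nat_lit 4, nat_lit 1, nat_lit 3, nat_lit 0, nat_lit 2], .rel (nat_lit 46) (nat_lit 7) [nat_lit 1, nat_lit 2, nat_lit 0, nat_lit 2, nat_lit 4, nat_lit 0, nat_lit 2, nat_lit 0, nat_lit 2, nat_lit 1, nat_lit 4], .rel (nat_lit 52) (nat_lit 9) [nat_lit 2, nat_lit 0, nat_lit 3, nat_lit 4, nat_lit 1, nat_lit 3, nat_lit 0, nat_lit 3, nat_lit 1, nat_lit 4, nat_lit 3, nat_lit 2], .rel (nat_lit 93) (nat_lit 2) [nat_lit 3, nat_lit 0, nat_lit 1, nat_lit 0, nat_lit 4, nat_lit 3, nat_lit 0, nat_lit 3, nat_lit 0, nat_lit 1, nat_lit 0, nat_lit 4, nat_lit 3, nat_lit 0, nat_lit 3, nat_lit 0, nat_lit 1, nat_lit 0, nat_lit 4, nat_lit 3], .rel (nat_lit 46) (nat_lit 10) [nat_lit 2, nat_lit 4, nat_lit 0, nat_lit 2, nat_lit 0, nat_lit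 2, nat_lit 1, nat_lit 4, nat_lit 0, nat_lit 1, nat_lit 2], .rel (nat_lit 92) (nat_lit 4) [nat_lit 3, nat_lit 4, nat_lit 0, nat_lit 1, nat_lit 0, nat_lit 3, nat_lit 0, nat_lit 3, nat_lit 4, nat_lit 0, nat_lit 1, nat_lit 0, nat_lit 3, nat_lit 0, nat_lit 3, nat_lit 4, nat_lit 0, nat_lit 1, nat_lit 0, nat_lit 3], .rel (nat_lit 95) (nat_lit 3) [nat_lit 3, nat_lit 1, nat_lit 0, nat_lit 4, nat_lit 0, nat_lit 3, nat_lit 0, nat_lit 3, nat_lit 1, nat_lit 0, nat_lit 4, nat_lit 0, nat_lit 3, nat_lit 0, nat_lit 3, nat_lit 1, nat_lit 0, nat_lit 4, nat_lit 0, nat_lit 3], .rel (nat_lit 37) (nat_lit 14) [nat_lit 2, nat_lit 0, nat_lit 2, nat_lit 1, nat_lit 0, nat_lit 2, nat_lit 0, nat_lit 1, nat_lit 2, nat_lit 1, nat_lit 0, nat_lit 2, nat_lit 0, nat_lit 1], .rel (nat_lit 44) (nat_lit 8) [nat_lit 2, nat_lit 0, nat_lit 1, nat_lit 4, nat_lit 0, nat_lit 1,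 nat_lit 2, nat_lit 0, nat_lit 2, nat_lit 4, nat_lit 2], .rel (nat_lit 45) (nat_lit 1) [nat_lit 2, nat_lit 0, nat_lit 2, nat_lit 4, nat_lit 2, nat_lit 0, nat_lit 2, nat_lit 1, nat_lit 0, nat_lit 4, nat_lit 1], .rel (nat_lit 37) (nat_lit 6) [nat_lit 1, nat_lit 2, nat_lit 1, nat_lit 0, nat_lit 2, nat_lit 0, nat_lit 1, nat_lit 0, nat_lit 2, nat_lit 0, nat_lit 2, nat_lit 1, nat_lit 0, nat_lit 2], .rel (nat_lit 37) (nat_lit 12) [nat_lit 1, nat_lit 0, nat_lit 2, nat_lit 0, nat_lit 2, nat_lit 1, nat_lit 0, nat_lit 2, nat_lit 0, nat_lit 1, nat_lit 2, nat_lit 1, nat_lit 0, nat_lit 2], .rel (nat_lit 44) (nat_lit 4) [nat_lit 2, nat_lit 4, nat_lit 2, nat_lit 0, nat_lit 2, nat_lit 0, nat_lit 1, nat_lit 4, nat_lit 0, nat_lit 1, nat_lit 2], .rel (nat_lit 44) (nat_lit 10) [nat_lit 1, nat_lit 4, nat_lit 0, nat_lit 1, nat_lit 2, nat_lit 0, nat_lit 2, nat_lit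 4, nat_lit 2, nat_lit 0, nat_lit 2], .rel (nat_lit 47) (nat_lit 4) [nat_lit 4, nat_lit 1, nat_lit 2, nat_lit 0, nat_lit 2, nat_lit 0, nat_lit 4, nat_lit 2, nat_lit 0, nat_lit 2, nat_lit 1], .rel (nat_lit 37) (nat_lit 10) [nat_lit 2, nat_lit 0, nat_lit 1, nat_lit 0, nat_lit 2, nat_lit 0, nat_lit 2, nat_lit 1, nat_lit 0, nat_lit 2, nat_lit 0, nat_lit 1, nat_lit 2, nat_lit 1], .rel (nat_lit 45) (nat_lit 3) [nat_lit 2, nat_lit 4, nat_lit 2, nat_lit 0, nat_lit 2, nat_lit 1, nat_lit 0, nat_lit 4, nat_lit 1, nat_lit 0, nat_lit 2], .rel (nat_lit 45) (nat_lit 7) [nat_lit 2, nat_lit 1, nat_lit 0, nat_lit 4, nat_lit 1, nat_lit 0, nat_lit 2, nat_lit 0, nat_lit 2, nat_lit 4, nat_lit 2], .rel (nat_lit 94) (nat_lit 0) [nat_lit 1, nat_lit 3, nat_lit 0, nat_lit 3, nat_lit 0, nat_lit 4, nat_lit 0, nat_lit 1, nat_lit 3, nat_lit 0, nat_lit 3, nat_lit 0, nat_lit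 4, nat_lit 0, nat_lit 1, nat_lit 3, nat_lit 0, nat_lit 3, nat_lit 0, nat_lit 4], .rel (nat_lit 94) (nat_lit 3) [nat_lit 3, nat_lit 0, nat_lit 4, nat_lit 0, nat_lit 1, nat_lit 3, nat_lit 0, nat_lit 3, nat_lit 0, nat_lit 4, nat_lit 0, nat_lit 1, nat_lit 3, nat_lit 0, nat_lit 3, nat_lit 0, nat_lit 4, nat_lit 0, nat_lit 1, nat_lit 3], .rel (nat_lit 33) (nat_lit 11) [nat_lit 2, nat_lit 3, nat_lit 0, nat_lit 3, nat_lit 2, nat_lit 0, nat_lit 3, nat_lit 2, nat_lit 0, nat_lit 3, nat_lit 2], .rel (nat_lit 37) (nat_lit 4) [nat_lit 2, nat_lit 0, nat_lit 1, nat_lit 2, nat_lit 1, nat_lit 0, nat_lit 2, nat_lit 0, nat_lit 1, nat_lit 0, nat_lit 2, nat_lit 0, nat_lit 2, nat_lit 1], .rel (nat_lit 96) (nat_lit 3) [nat_lit 3, nat_lit 4, nat_lit 1, nat_lit 0, nat_lit 1, nat_lit 3, nat_lit 0, nat_lit 3, nat_lit 4, nat_lit 1, nat_lit 0, nat_lit 1, nat_lit 3,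 nat_lit 0, nat_lit 3, nat_lit 4, nat_lit 1, nat_lit 0, nat_lit 1, nat_lit 3], .rel (nat_lit 97) (nat_lit 3) [nat_lit 3, nat_lit 1, nat_lit 0, nat_lit 1, nat_lit 4, nat_lit 3, nat_lit 0, nat_lit 3, nat_lit 1, nat_lit 0, nat_lit 1, nat_lit 4, nat_lit 3, nat_lit 0, nat_lit 3, nat_lit 1, nat_lit 0, nat_lit 1, nat_lit 4, nat_lit 3], .rel (nat_lit 64) (nat_lit 0) [nat_lit 1, nat_lit 2, nat_lit 4, nat_lit 0, nat_lit 1, nat_lit 2, nat_lit 4, nat_lit 0, nat_lit 1, nat_lit 2, nat_lit 4, nat_lit 0, nat_lit 1, nat_lit 2, nat_lit 4, nat_lit 0, nat_lit 1, nat_lit 2, nat_lit 4], .sub (nat_lit 0) [] [], .rel (nat_lit 60) (nat_lit 4) [nat_lit 4, nat_lit 0, nat_lit 2, nat_lit 4, nat_lit 2, nat_lit 0, nat_lit 4, nat_lit 0, nat_lit 2, nat_lit 4, nat_lit 2, nat_lit 0, nat_lit 4, nat_lit 0, nat_lit 2, nat_lit 4, nat_lit 2], .rel (nat_lit 74) (nat_lit 0) [nat_lit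 1, nat_lit 0, nat_lit 2, nat_lit 4, nat_lit 2, nat_lit 4, nat_lit 0, nat_lit 1, nat_lit 0, nat_lit 2, nat_lit 4, nat_lit 2, nat_lit 4, nat_lit 0, nat_lit 1, nat_lit 0, nat_lit 2, nat_lit 4, nat_lit 2, nat_lit 4], .rel (nat_lit 99) (nat_lit 1) [nat_lit 3, nat_lit 1, nat_lit 4, nat_lit 1, nat_lit 0, nat_lit 3, nat_lit 0, nat_lit 3, nat_lit 1, nat_lit 4, nat_lit 1, nat_lit 0, nat_lit 3, nat_lit 0, nat_lit 3, nat_lit 1, nat_lit 4, nat_lit 1, nat_lit 0, nat_lit 3]],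
  [.rel (nat_lit 2) (nat_lit 0) [nat_lit 1], .defn, .rel (nat_lit 39) (nat_lit 0) [nat_lit 0, nat_lit 4, nat_lit 1, nat_lit 0, nat_lit 4], .rel (nat_lit 10) (nat_lit 1) [nat_lit 0, nat_lit 1, nat_lit 0, nat_lit 1, nat_lit 0], .rel (nat_lit 12) (nat_lit 0) [nat_lit 2, nat_lit 1, nat_lit 2, nat_lit 1, nat_lit 2], .rel (nat_lit 14) (nat_lit 0) [nat_lit 3, nat_lit 1, nat_lit 3, nat_lit 1, nat_lit 3], .rel (nat_lit 38) (nat_lit 2) [nat_lit 4, nat_lit 0, nat_lit 1, nat_lit 4, nat_lit 0], .rel (nat_lit 24) (nat_lit 2) [nat_lit 3, nat_lit 2, nat_lit 1, nat_lit 3, nat_lit 1, nat_lit 2, nat_lit 3, nat_lit 1, nat_lit 2], .rel (nat_lit 24) (nat_lit 0) [nat_lit 2, nat_lit 1, nat_lit 3, nat_lit 2, nat_lit 1, nat_lit 3, nat_lit 1, nat_lit 2, nat_lit 3], .rel (nat_lit 50) (nat_lit 1) [nat_lit 2, nat_lit 3, nat_lit 0, nat_lit 2, nat_lit 0, nat_lit 3, nat_lit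 1, nat_lit 4, nat_lit 3, nat_lit 0, nat_lit 3, nat_lit 4], .rel (nat_lit 80) (nat_lit 0) [nat_lit 3, nat_lit 4, nat_lit 1, nat_lit 3, nat_lit 4, nat_lit 1, nat_lit 3, nat_lit 4, nat_lit 1, nat_lit 3, nat_lit 4, nat_lit 1, nat_lit 3, nat_lit 4], .rel (nat_lit 52) (nat_lit 1) [nat_lit 3, nat_lit 0, nat_lit 3, nat_lit 1, nat_lit 4, nat_lit 3, nat_lit 2, nat_lit 0, nat_lit 2, nat_lit 0, nat_lit 3, nat_lit 4], .rel (nat_lit 24) (nat_lit 7) [nat_lit 2, nat_lit 3, nat_lit 1, nat_lit 2, nat_lit 1, nat_lit 3, nat_lit 2, nat_lit 1, nat_lit 3], .rel (nat_lit 36) (nat_lit 1) [nat_lit 0, nat_lit 2, nat_lit 0, nat_lit 1, nat_lit 2, nat_lit 1, nat_lit 0, nat_lit 2, nat_lit 0, nat_lit 1, nat_lit 2, nat_lit 0, nat_lit 2, nat_lit 0], .rel (nat_lit 30) (nat_lit 2) [nat_lit 3, nat_lit 1, nat_lit 2, nat_lit 0, nat_lit 2, nat_lit 3, nat_lit 1, nat_lit 2, nat_lit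 3, nat_lit 0, nat_lit 2], .rel (nat_lit 50) (nat_lit 8) [nat_lit 4, nat_lit 3, nat_lit 0, nat_lit 3, nat_lit 4, nat_lit 1, nat_lit 2, nat_lit 3, nat_lit 0, nat_lit 2, nat_lit 0, nat_lit 3], .rel (nat_lit 78) (nat_lit 6) [nat_lit 0, nat_lit 1, nat_lit 2, nat_lit 0, nat_lit 2, nat_lit 4, nat_lit 1, nat_lit 0, nat_lit 1, nat_lit 2, nat_lit 0, nat_lit 2, nat_lit 4, nat_lit 1, nat_lit 0, nat_lit 1, nat_lit 2, nat_lit 0, nat_lit 2, nat_lit 4], .rel (nat_lit 30) (nat_lit 4) [nat_lit 2, nat_lit 0, nat_lit 2, nat_lit 3, nat_lit 1, nat_lit 2, nat_lit 3, nat_lit 0, nat_lit 2, nat_lit 1, nat_lit 3], .rel (nat_lit 46) (nat_lit 5) [nat_lit 4, nat_lit 0, nat_lit 1, nat_lit 2, nat_lit 0, nat_lit 2, nat_lit 4, nat_lit 0, nat_lit 2, nat_lit 0, nat_lit 2], .rel (nat_lit 51) (nat_lit 4) [nat_lit 3, nat_lit 0, nat_lit 2, nat_lit 0, nat_lit 3, nat_lit 2, nat_lit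 1, nat_lit 4, nat_lit 3, nat_lit 0, nat_lit 3, nat_lit 4], .rel (nat_lit 30) (nat_lit 9) [nat_lit 2, nat_lit 3, nat_lit 0, nat_lit 2, nat_lit 1, nat_lit 3, nat_lit 1, nat_lit 2, nat_lit 0, nat_lit 2, nat_lit 3], .rel (nat_lit 36) (nat_lit 5) [nat_lit 2, nat_lit 1, nat_lit 0, nat_lit 2, nat_lit 0, nat_lit 1, nat_lit 2, nat_lit 0, nat_lit 2, nat_lit 0, nat_lit 1, nat_lit 0, nat_lit 2, nat_lit 0], .rel (nat_lit 52) (nat_lit 5) [nat_lit 4, nat_lit 3, nat_lit 2, nat_lit 0, nat_lit 2, nat_lit 0, nat_lit 3, nat_lit 4, nat_lit 1, nat_lit 3, nat_lit 0, nat_lit 3], .rel (nat_lit 27) (nat_lit 4) [nat_lit 3, nat_lit 2, nat_lit 3, nat_lit 2, nat_lit 1, nat_lit 3, nat_lit 2, nat_lit 3, nat_lit 2], .rel (nat_lit 26) (nat_lit 0) [nat_lit 2, nat_lit 3, nat_lit 2, nat_lit 3, nat_lit 1, nat_lit 2, nat_lit 3, nat_lit 2, nat_lit 3], .rel (nat_lit 81) (nat_lit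 2) [nat_lit 4, nat_lit 3, nat_lit 1, nat_lit 4, nat_lit 3, nat_lit 1, nat_lit 4, nat_lit 3, nat_lit 1, nat_lit 4, nat_lit 3, nat_lit 1, nat_lit 4, nat_lit 3], .rel (nat_lit 36) (nat_lit 7) [nat_lit 0, nat_lit 2, nat_lit 0, nat_lit 1, nat_lit 2, nat_lit 0, nat_lit 2, nat_lit 0, nat_lit 1, nat_lit 0, nat_lit 2, nat_lit 0, nat_lit 1, nat_lit 2], .rel (nat_lit 24) (nat_lit 5) [nat_lit 3, nat_lit 1, nat_lit 2, nat_lit 3, nat_lit 1, nat_lit 2, nat_lit 1, nat_lit 3, nat_lit 2], .rel (nat_lit 37) (nat_lit 9) [nat_lit 0, nat_lit 2, nat_lit 0, nat_lit 1, nat_lit 0, nat_lit 2, nat_lit 0, nat_lit 2, nat_lit 1, nat_lit 0, nat_lit 2, nat_lit 0, nat_lit 1, nat_lit 2], .rel (nat_lit 47) (nat_lit 6) [nat_lit 2, nat_lit 0, nat_lit 2, nat_lit 0, nat_lit 4, nat_lit 2, nat_lit 0, nat_lit 2, nat_lit 1, nat_lit 0, nat_lit 4], .rel (nat_lit 31) (nat_lit 2) [nat_lit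 3, nat_lit 2, nat_lit 0, nat_lit 2, nat_lit 1, nat_lit 3, nat_lit 1, nat_lit 2, nat_lit 0, nat_lit 3, nat_lit 2], .rel (nat_lit 45) (nat_lit 0) [nat_lit 0, nat_lit 2, nat_lit 0, nat_lit 2, nat_lit 4, nat_lit 2, nat_lit 0, nat_lit 2, nat_lit 1, nat_lit 0, nat_lit 4], .rel (nat_lit 96) (nat_lit 6) [nat_lit 0, nat_lit 1, nat_lit 3, nat_lit 0, nat_lit 3, nat_lit 4, nat_lit 1, nat_lit 0, nat_lit 1, nat_lit 3, nat_lit 0, nat_lit 3, nat_lit 4, nat_lit 1, nat_lit 0, nat_lit 1, nat_lit 3, nat_lit 0, nat_lit 3, nat_lit 4], .rel (nat_lit 37) (nat_lit 3) [nat_lit 0, nat_lit 2, nat_lit 0, nat_lit 1, nat_lit 2, nat_lit 1, nat_lit 0, nat_lit 2, nat_lit 0, nat_lit 1, nat_lit 0, nat_lit 2, nat_lit 0, nat_lit 2], .rel (nat_lit 44) (nat_lit 11) [nat_lit 4, nat_lit 0, nat_lit 1, nat_lit 2, nat_lit 0, nat_lit 2, nat_lit 4, nat_lit 2, nat_lit 0, nat_lit 2,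 nat_lit 0], .rel (nat_lit 36) (nat_lit 11) [nat_lit 2, nat_lit 0, nat_lit 2, nat_lit 0, nat_lit 1, nat_lit 0, nat_lit 2, nat_lit 0, nat_lit 1, nat_lit 2, nat_lit 1, nat_lit 0, nat_lit 2, nat_lit 0], .rel (nat_lit 45) (nat_lit 9) [nat_lit 0, nat_lit 4, nat_lit 1, nat_lit 0, nat_lit 2, nat_lit 0, nat_lit 2, nat_lit 4, nat_lit 2, nat_lit 0, nat_lit 2], .rel (nat_lit 53) (nat_lit 7) [nat_lit 3, nat_lit 0, nat_lit 3, nat_lit 1, nat_lit 4, nat_lit 3, nat_lit 0, nat_lit 2, nat_lit 0, nat_lit 2, nat_lit 3, nat_lit 4], .rel (nat_lit 31) (nat_lit 9) [nat_lit 2, nat_lit 0, nat_lit 3, nat_lit 2, nat_lit 1, nat_lit 3, nat_lit 2, nat_lit 0, nat_lit 2, nat_lit 1, nat_lit 3], .rel (nat_lit 31) (nat_lit 7) [nat_lit 3, nat_lit 1, nat_lit 2, nat_lit 0, nat_lit 3, nat_lit 2, nat_lit 1, nat_lit 3, nat_lit 2, nat_lit 0, nat_lit 2], .rel (nat_lit 44) (nat_lit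 2) [nat_lit 2, nat_lit 0, nat_lit 2, nat_lit 4, nat_lit 2, nat_lit 0, nat_lit 2, nat_lit 0, nat_lit 1, nat_lit 4, nat_lit 0], .rel (nat_lit 37) (nat_lit 13) [nat_lit 0, nat_lit 2, nat_lit 0, nat_lit 2, nat_lit 1, nat_lit 0, nat_lit 2, nat_lit 0, nat_lit 1, nat_lit 2, nat_lit 1, nat_lit 0, nat_lit 2, nat_lit 0], .rel (nat_lit 51) (nat_lit 11) [nat_lit 4, nat_lit 3, nat_lit 0, nat_lit 3, nat_lit 4, nat_lit 1, nat_lit 3, nat_lit 0, nat_lit 2, nat_lit 0, nat_lit 3, nat_lit 2], .rel (nat_lit 46) (nat_lit 8) [nat_lit 2, nat_lit 0, nat_lit 2, nat_lit 4, nat_lit 0, nat_lit 2, nat_lit 0, nat_lit 2, nat_lit 1, nat_lit 4, nat_lit 0], .rel (nat_lit 100) (nat_lit 5) [nat_lit 4, nat_lit 0, nat_lit 3, nat_lit 0, nat_lit 3, nat_lit 4, nat_lit 1, nat_lit 4, nat_lit 0, nat_lit 3, nat_lit 0, nat_lit 3, nat_lit 4, nat_lit 1, nat_lit 4, nat_lit 0, nat_lit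 3, nat_lit 0, nat_lit 3, nat_lit 4], .rel (nat_lit 37) (nat_lit 7) [nat_lit 2, nat_lit 1, nat_lit 0, nat_lit 2, nat_lit 0, nat_lit 1, nat_lit 0, nat_lit 2, nat_lit 0, nat_lit 2, nat_lit 1, nat_lit 0, nat_lit 2, nat_lit 0], .rel (nat_lit 53) (nat_lit 11) [nat_lit 4, nat_lit 3, nat_lit 0, nat_lit 2, nat_lit 0, nat_lit 2, nat_lit 3, nat_lit 4, nat_lit 1, nat_lit 3, nat_lit 0, nat_lit 3], .rel (nat_lit 86) (nat_lit 2) [nat_lit 4, nat_lit 1, nat_lit 3, nat_lit 1, nat_lit 4, nat_lit 1, nat_lit 3, nat_lit 1, nat_lit 4, nat_lit 1, nat_lit 3, nat_lit 1, nat_lit 4, nat_lit 1, nat_lit 3, nat_lit 1, nat_lit 4, nat_lit 1, nat_lit 3], .rel (nat_lit 98) (nat_lit 3) [nat_lit 3, nat_lit 0, nat_lit 3, nat_lit 0, nat_lit 1, nat_lit 4, nat_lit 1, nat_lit 3, nat_lit 0, nat_lit 3, nat_lit 0, nat_lit 1, nat_lit 4, nat_lit 1, nat_lit 3, nat_lit 0, nat_lit 3,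 nat_lit 0, nat_lit 1, nat_lit 4], .rel (nat_lit 82) (nat_lit 0) [nat_lit 3, nat_lit 1, nat_lit 3, nat_lit 4, nat_lit 3, nat_lit 1, nat_lit 3, nat_lit 1, nat_lit 3, nat_lit 4, nat_lit 3, nat_lit 1, nat_lit 3, nat_lit 1, nat_lit 3, nat_lit 4, nat_lit 3], .rel (nat_lit 88) (nat_lit 0) [nat_lit 3, nat_lit 4, nat_lit 3, nat_lit 1, nat_lit 3, nat_lit 4, nat_lit 3, nat_lit 1, nat_lit 3, nat_lit 4, nat_lit 3, nat_lit 1, nat_lit 3, nat_lit 4, nat_lit 3, nat_lit 1, nat_lit 3, nat_lit 4, nat_lit 3], .rel (nat_lit 95) (nat_lit 5) [nat_lit 0, nat_lit 4, nat_lit 0, nat_lit 3, nat_lit 0, nat_lit 3, nat_lit 1, nat_lit 0, nat_lit 4, nat_lit 0, nat_lit 3, nat_lit 0, nat_lit 3, nat_lit 1, nat_lit 0, nat_lit 4, nat_lit 0, nat_lit 3, nat_lit 0, nat_lit 3], .rel (nat_lit 96) (nat_lit 1) [nat_lit 3, nat_lit 0, nat_lit 3, nat_lit 4, nat_lit 1, nat_lit 0, nat_lit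 1, nat_lit 3, nat_lit 0, nat_lit 3, nat_lit 4, nat_lit 1, nat_lit 0, nat_lit 1, nat_lit 3, nat_lit 0, nat_lit 3, nat_lit 4, nat_lit 1, nat_lit 0], .rel (nat_lit 103) (nat_lit 4) [nat_lit 3, nat_lit 0, nat_lit 3, nat_lit 4, nat_lit 0, nat_lit 4, nat_lit 1, nat_lit 3, nat_lit 0, nat_lit 3, nat_lit 4, nat_lit 0, nat_lit 4, nat_lit 1, nat_lit 3, nat_lit 0, nat_lit 3, nat_lit 4, nat_lit 0, nat_lit 4], .sub (nat_lit 2) [] [], .rel (nat_lit 47) (nat_lit 3) [nat_lit 0, nat_lit 4, nat_lit 1, nat_lit 2, nat_lit 0, nat_lit 2, nat_lit 0, nat_lit 4, nat_lit 2, nat_lit 0, nat_lit 2], .rel (nat_lit 66) (nat_lit 0) [nat_lit 2, nat_lit 1, nat_lit 4, nat_lit 1, nat_lit 2, nat_lit 1, nat_lit 4, nat_lit 1, nat_lit 2, nat_lit 1, nat_lit 4, nat_lit 1, nat_lit 2, nat_lit 1, nat_lit 4, nat_lit 1, nat_lit 2, nat_lit 1, nat_lit 4], .rel (nat_lit 68) (nat_lit 0)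 [nat_lit 2, nat_lit 4, nat_lit 2, nat_lit 1, nat_lit 2, nat_lit 4, nat_lit 2, nat_lit 1, nat_lit 2, nat_lit 4, nat_lit 2, nat_lit 1, nat_lit 2, nat_lit 4, nat_lit 2, nat_lit 1, nat_lit 2, nat_lit 4, nat_lit 2], .rel (nat_lit 82) (nat_lit 2) [nat_lit 3, nat_lit 4, nat_lit 3, nat_lit 1, nat_lit 3, nat_lit 1, nat_lit 3, nat_lit 4, nat_lit 3, nat_lit 1, nat_lit 3, nat_lit 1, nat_lit 3, nat_lit 4, nat_lit 3, nat_lit 1, nat_lit 3], .rel (nat_lit 90) (nat_lit 0) [nat_lit 4, nat_lit 3, nat_lit 4, nat_lit 1, nat_lit 4, nat_lit 3, nat_lit 4, nat_lit 1, nat_lit 4, nat_lit 3, nat_lit 4, nat_lit 1, nat_lit 4, nat_lit 3, nat_lit 4, nat_lit 1, nat_lit 4, nat_lit 3, nat_lit 4], .rel (nat_lit 94) (nat_lit 1) [nat_lit 3, nat_lit 0, nat_lit 3, nat_lit 0, nat_lit 4, nat_lit 0, nat_lit 1, nat_lit 3, nat_lit 0, nat_lit 3, nat_lit 0, nat_lit 4, nat_lit 0, nat_lit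 1, nat_lit 3, nat_lit 0, nat_lit 3, nat_lit 0, nat_lit 4, nat_lit 0], .rel (nat_lit 97) (nat_lit 5) [nat_lit 0, nat_lit 1, nat_lit 4, nat_lit 3, nat_lit 0, nat_lit 3, nat_lit 1, nat_lit 0, nat_lit 1, nat_lit 4, nat_lit 3, nat_lit 0, nat_lit 3, nat_lit 1, nat_lit 0, nat_lit 1, nat_lit 4, nat_lit 3, nat_lit 0, nat_lit 3]],
  [.rel (nat_lit 4) (nat_lit 0) [nat_lit 2], .defn, .rel (nat_lit 12) (nat_lit 1) [nat_lit 1, nat_lit 2, nat_lit 1, nat_lit 2, nat_lit 1], .rel (nat_lit 20) (nat_lit 0) [nat_lit 3, nat_lit 2, nat_lit 3, nat_lit 2, nat_lit 3, nat_lit 2, nat_lit 3], .rel (nat_lit 22) (nat_lit 3) [nat_lit 3, nat_lit 0, nat_lit 2, nat_lit 3, nat_lit 2, nat_lit 3, nat_lit 0, nat_lit 2, nat_lit 3], .rel (nat_lit 16) (nat_lit 1) [nat_lit 0, nat_lit 2, nat_lit 0, nat_lit 2, nat_lit 0, nat_lit 2, nat_lit 0], .rel (nat_lit 43) (nat_lit 2) [nat_lit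 3, nat_lit 4, nat_lit 3, nat_lit 2, nat_lit 0, nat_lit 3, nat_lit 2, nat_lit 4, nat_lit 2, nat_lit 3], .rel (nat_lit 40) (nat_lit 3) [nat_lit 4, nat_lit 2, nat_lit 0, nat_lit 2, nat_lit 4, nat_lit 2, nat_lit 0], .rel (nat_lit 23) (nat_lit 1) [nat_lit 3, nat_lit 2, nat_lit 0, nat_lit 3, nat_lit 2, nat_lit 3, nat_lit 2, nat_lit 0, nat_lit 3], .rel (nat_lit 26) (nat_lit 3) [nat_lit 3, nat_lit 1, nat_lit 2, nat_lit 3, nat_lit 2, nat_lit 3, nat_lit 1, nat_lit 2, nat_lit 3], .rel (nat_lit 22) (nat_lit 1) [nat_lit 3, nat_lit 2, nat_lit 3, nat_lit 0, nat_lit 2, nat_lit 3, nat_lit 2, nat_lit 3, nat_lit 0], .rel (nat_lit 40) (nat_lit 1) [nat_lit 0, nat_lit 2, nat_lit 4, nat_lit 2, nat_lit 0, nat_lit 2, nat_lit 4], .rel (nat_lit 23) (nat_lit 3) [nat_lit 0, nat_lit 3, nat_lit 2, nat_lit 3, nat_lit 2, nat_lit 0, nat_lit 3, nat_lit 2, nat_lit 3], .rel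 (nat_lit 56) (nat_lit 0) [nat_lit 4, nat_lit 2, nat_lit 4, nat_lit 2, nat_lit 4, nat_lit 2, nat_lit 4, nat_lit 2, nat_lit 4, nat_lit 2, nat_lit 4], .rel (nat_lit 24) (nat_lit 4) [nat_lit 1, nat_lit 3, nat_lit 1, nat_lit 2, nat_lit 3, nat_lit 1, nat_lit 2, nat_lit 1, nat_lit 3], .rel (nat_lit 30) (nat_lit 1) [nat_lit 1, nat_lit 3, nat_lit 1, nat_lit 2, nat_lit 0, nat_lit 2, nat_lit 3, nat_lit 1, nat_lit 2, nat_lit 3, nat_lit 0], .rel (nat_lit 30) (nat_lit 7) [nat_lit 3, nat_lit 1, nat_lit 2, nat_lit 3, nat_lit 0, nat_lit 2, nat_lit 1, nat_lit 3, nat_lit 1, nat_lit 2, nat_lit 0], .rel (nat_lit 42) (nat_lit 4) [nat_lit 3, nat_lit 4, nat_lit 3, nat_lit 2, nat_lit 3, nat_lit 2, nat_lit 4, nat_lit 2, nat_lit 3, nat_lit 0], .rel (nat_lit 30) (nat_lit 5) [nat_lit 0, nat_lit 2, nat_lit 3, nat_lit 1, nat_lit 2, nat_lit 3, nat_lit 0, nat_lit 2, nat_lit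 1, nat_lit 3, nat_lit 1], .rel (nat_lit 46) (nat_lit 4) [nat_lit 1, nat_lit 4, nat_lit 0, nat_lit 1, nat_lit 2, nat_lit 0, nat_lit 2, nat_lit 4, nat_lit 0, nat_lit 2, nat_lit 0], .rel (nat_lit 59) (nat_lit 1) [nat_lit 0, nat_lit 4, nat_lit 2, nat_lit 0, nat_lit 4, nat_lit 2, nat_lit 0, nat_lit 4, nat_lit 2, nat_lit 0, nat_lit 4, nat_lit 2, nat_lit 0, nat_lit 4], .rel (nat_lit 31) (nat_lit 6) [nat_lit 1, nat_lit 3, nat_lit 1, nat_lit 2, nat_lit 0, nat_lit 3, nat_lit 2, nat_lit 1, nat_lit 3, nat_lit 2, nat_lit 0], .rel (nat_lit 58) (nat_lit 1) [nat_lit 4, nat_lit 0, nat_lit 2, nat_lit 4, nat_lit 0, nat_lit 2, nat_lit 4, nat_lit 0, nat_lit 2, nat_lit 4, nat_lit 0, nat_lit 2, nat_lit 4, nat_lit 0], .rel (nat_lit 36) (nat_lit 6) [nat_lit 1, nat_lit 0, nat_lit 2, nat_lit 0, nat_lit 1, nat_lit 2, nat_lit 0, nat_lit 2, nat_lit 0, nat_lit 1, nat_lit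 0, nat_lit 2, nat_lit 0, nat_lit 1], .rel (nat_lit 42) (nat_lit 8) [nat_lit 3, nat_lit 2, nat_lit 4, nat_lit 2, nat_lit 3, nat_lit 0, nat_lit 2, nat_lit 3, nat_lit 4, nat_lit 3], .rel (nat_lit 47) (nat_lit 7) [nat_lit 0, nat_lit 2, nat_lit 0, nat_lit 4, nat_lit 2, nat_lit 0, nat_lit 2, nat_lit 1, nat_lit 0, nat_lit 4, nat_lit 1], .rel (nat_lit 42) (nat_lit 1) [nat_lit 3, nat_lit 0, nat_lit 2, nat_lit 3, nat_lit 4, nat_lit 3, nat_lit 2, nat_lit 3, nat_lit 2, nat_lit 4], .rel (nat_lit 24) (nat_lit 1) [nat_lit 1, nat_lit 3, nat_lit 2, nat_lit 1, nat_lit 3, nat_lit 1, nat_lit 2, nat_lit 3, nat_lit 1], .rel (nat_lit 32) (nat_lit 1) [nat_lit 3, nat_lit 0, nat_lit 2, nat_lit 3, nat_lit 0, nat_lit 2, nat_lit 3, nat_lit 0, nat_lit 3, nat_lit 2, nat_lit 0], .rel (nat_lit 37) (nat_lit 2) [nat_lit 1, nat_lit 0, nat_lit 2, nat_lit 0, nat_lit 1, nat_lit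 2, nat_lit 1, nat_lit 0, nat_lit 2, nat_lit 0, nat_lit 1, nat_lit 0, nat_lit 2, nat_lit 0], .rel (nat_lit 28) (nat_lit 1) [nat_lit 0, nat_lit 3, nat_lit 2, nat_lit 3, nat_lit 0, nat_lit 2, nat_lit 0, nat_lit 3, nat_lit 2, nat_lit 3, nat_lit 0], .rel (nat_lit 43) (nat_lit 0) [nat_lit 3, nat_lit 2, nat_lit 3, nat_lit 4, nat_lit 3, nat_lit 2, nat_lit 0, nat_lit 3, nat_lit 2, nat_lit 4], .rel (nat_lit 27) (nat_lit 3) [nat_lit 1, nat_lit 3, nat_lit 2, nat_lit 3, nat_lit 2, nat_lit 1, nat_lit 3, nat_lit 2, nat_lit 3], .rel (nat_lit 31) (nat_lit 1) [nat_lit 1, nat_lit 3, nat_lit 2, nat_lit 0, nat_lit 2, nat_lit 1, nat_lit 3, nat_lit 1, nat_lit 2, nat_lit 0, nat_lit 3], .rel (nat_lit 45) (nat_lit 8) [nat_lit 1, nat_lit 0, nat_lit 4, nat_lit 1, nat_lit 0, nat_lit 2, nat_lit 0, nat_lit 2, nat_lit 4, nat_lit 2, nat_lit 0], .rel (nat_lit 48) (nat_lit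 1) [nat_lit 3, nat_lit 0, nat_lit 3, nat_lit 2, nat_lit 4, nat_lit 2, nat_lit 3, nat_lit 0, nat_lit 3, nat_lit 2, nat_lit 4], .rel (nat_lit 26) (nat_lit 1) [nat_lit 3, nat_lit 2, nat_lit 3, nat_lit 1, nat_lit 2, nat_lit 3, nat_lit 2, nat_lit 3, nat_lit 1], .rel (nat_lit 43) (nat_lit 6) [nat_lit 0, nat_lit 3, nat_lit 2, nat_lit 4, nat_lit 2, nat_lit 3, nat_lit 2, nat_lit 3, nat_lit 4, nat_lit 3], .rel (nat_lit 34) (nat_lit 3) [nat_lit 0, nat_lit 3, nat_lit 0, nat_lit 2, nat_lit 3, nat_lit 2, nat_lit 0, nat_lit 3, nat_lit 0, nat_lit 2, nat_lit 3], .rel (nat_lit 46) (nat_lit 11) [nat_lit 4, nat_lit 0, nat_lit 2, nat_lit 0, nat_lit 2, nat_lit 1, nat_lit 4, nat_lit 0, nat_lit 1, nat_lit 2, nat_lit 0], .rel (nat_lit 47) (nat_lit 9) [nat_lit 0, nat_lit 4, nat_lit 2, nat_lit 0, nat_lit 2, nat_lit 1, nat_lit 0, nat_lit 4, nat_lit 1, nat_lit 2,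 nat_lit 0], .rel (nat_lit 32) (nat_lit 11) [nat_lit 0, nat_lit 2, nat_lit 3, nat_lit 0, nat_lit 2, nat_lit 3, nat_lit 0, nat_lit 2, nat_lit 3, nat_lit 0, nat_lit 3], .rel (nat_lit 34) (nat_lit 1) [nat_lit 3, nat_lit 2, nat_lit 0, nat_lit 3, nat_lit 0, nat_lit 2, nat_lit 3, nat_lit 2, nat_lit 0, nat_lit 3, nat_lit 0], .rel (nat_lit 33) (nat_lit 7) [nat_lit 0, nat_lit 3, nat_lit 2, nat_lit 0, nat_lit 2, nat_lit 3, nat_lit 0, nat_lit 3, nat_lit 2, nat_lit 0, nat_lit 3], .rel (nat_lit 36) (nat_lit 12) [nat_lit 0, nat_lit 2, nat_lit 0, nat_lit 1, nat_lit 0, nat_lit 2, nat_lit 0, nat_lit 1, nat_lit 2, nat_lit 1, nat_lit 0, nat_lit 2, nat_lit 0, nat_lit 1], .rel (nat_lit 44) (nat_lit 7) [nat_lit 0, nat_lit 2, nat_lit 0, nat_lit 1, nat_lit 4, nat_lit 0, nat_lit 1, nat_lit 2, nat_lit 0, nat_lit 2, nat_lit 4], .rel (nat_lit 52) (nat_lit 8) [nat_lit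 0, nat_lit 2, nat_lit 0, nat_lit 3, nat_lit 4, nat_lit 1, nat_lit 3, nat_lit 0, nat_lit 3, nat_lit 1, nat_lit 4, nat_lit 3], .rel (nat_lit 28) (nat_lit 4) [nat_lit 3, nat_lit 0, nat_lit 2, nat_lit 0, nat_lit 3, nat_lit 2, nat_lit 3, nat_lit 0, nat_lit 2, nat_lit 0, nat_lit 3], .rel (nat_lit 36) (nat_lit 3) [nat_lit 0, nat_lit 1, nat_lit 2, nat_lit 1, nat_lit 0, nat_lit 2, nat_lit 0, nat_lit 1, nat_lit 2, nat_lit 0, nat_lit 2, nat_lit 0, nat_lit 1, nat_lit 0], .rel (nat_lit 36) (nat_lit 14) [nat_lit 0, nat_lit 1, nat_lit 0, nat_lit 2, nat_lit 0, nat_lit 1, nat_lit 2, nat_lit 1, nat_lit 0, nat_lit 2, nat_lit 0, nat_lit 1, nat_lit 2, nat_lit 0], .rel (nat_lit 53) (nat_lit 2) [nat_lit 0, nat_lit 2, nat_lit 3, nat_lit 4, nat_lit 1, nat_lit 3, nat_lit 0, nat_lit 3, nat_lit 1, nat_lit 4, nat_lit 3, nat_lit 0], .rel (nat_lit 24) (nat_lit 8) [nat_lit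 3, nat_lit 1, nat_lit 2, nat_lit 1, nat_lit 3, nat_lit 2, nat_lit 1, nat_lit 3, nat_lit 1], .rel (nat_lit 31) (nat_lit 4) [nat_lit 0, nat_lit 2, nat_lit 1, nat_lit 3, nat_lit 1, nat_lit 2, nat_lit 0, nat_lit 3, nat_lit 2, nat_lit 1, nat_lit 3], .rel (nat_lit 42) (nat_lit 10) [nat_lit 4, nat_lit 2, nat_lit 3, nat_lit 0, nat_lit 2, nat_lit 3, nat_lit 4, nat_lit 3, nat_lit 2, nat_lit 3], .rel (nat_lit 46) (nat_lit 2) [nat_lit 0, nat_lit 2, nat_lit 1, nat_lit 4, nat_lit 0, nat_lit 1, nat_lit 2, nat_lit 0, nat_lit 2, nat_lit 4, nat_lit 0], .rel (nat_lit 45) (nat_lit 6) [nat_lit 0, nat_lit 2, nat_lit 1, nat_lit 0, nat_lit 4, nat_lit 1, nat_lit 0, nat_lit 2, nat_lit 0, nat_lit 2, nat_lit 4], .rel (nat_lit 36) (nat_lit 9) [nat_lit 0, nat_lit 1, nat_lit 2, nat_lit 0, nat_lit 2, nat_lit 0, nat_lit 1, nat_lit 0, nat_lit 2, nat_lit 0, nat_lit 1, nat_lit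 2, nat_lit 1, nat_lit 0], .rel (nat_lit 44) (nat_lit 9) [nat_lit 0, nat_lit 1, nat_lit 4, nat_lit 0, nat_lit 1, nat_lit 2, nat_lit 0, nat_lit 2, nat_lit 4, nat_lit 2, nat_lit 0], .rel (nat_lit 52) (nat_lit 10) [nat_lit 0, nat_lit 3, nat_lit 4, nat_lit 1, nat_lit 3, nat_lit 0, nat_lit 3, nat_lit 1, nat_lit 4, nat_lit 3, nat_lit 2, nat_lit 0], .rel (nat_lit 27) (nat_lit 1) [nat_lit 3, nat_lit 2, nat_lit 1, nat_lit 3, nat_lit 2, nat_lit 3, nat_lit 2, nat_lit 1, nat_lit 3], .rel (nat_lit 37) (nat_lit 0) [nat_lit 0, nat_lit 2, nat_lit 1, nat_lit 0, nat_lit 2, nat_lit 0, nat_lit 1, nat_lit 2, nat_lit 1, nat_lit 0, nat_lit 2, nat_lit 0, nat_lit 1, nat_lit 0], .rel (nat_lit 44) (nat_lit 3) [nat_lit 0, nat_lit 2, nat_lit 4, nat_lit 2, nat_lit 0, nat_lit 2, nat_lit 0, nat_lit 1, nat_lit 4, nat_lit 0, nat_lit 1], .rel (nat_lit 51) (nat_lit 7) [nat_lit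 0, nat_lit 3, nat_lit 2, nat_lit 1, nat_lit 4, nat_lit 3, nat_lit 0, nat_lit 3, nat_lit 4, nat_lit 1, nat_lit 3, nat_lit 0], .rel (nat_lit 32) (nat_lit 4) [nat_lit 3, nat_lit 0, nat_lit 2, nat_lit 3, nat_lit 0, nat_lit 3, nat_lit 2, nat_lit 0, nat_lit 2, nat_lit 3, nat_lit 0], .rel (nat_lit 43) (nat_lit 9) [nat_lit 4, nat_lit 2, nat_lit 3, nat_lit 2, nat_lit 3, nat_lit 4, nat_lit 3, nat_lit 2, nat_lit 0, nat_lit 3], .rel (nat_lit 47) (nat_lit 0) [nat_lit 0, nat_lit 2, nat_lit 1, nat_lit 0, nat_lit 4, nat_lit 1, nat_lit 2, nat_lit 0, nat_lit 2, nat_lit 0, nat_lit 4], .rel (nat_lit 51) (nat_lit 10) [nat_lit 1, nat_lit 4, nat_lit 3, nat_lit 0, nat_lit 3, nat_lit 4, nat_lit 1, nat_lit 3, nat_lit 0, nat_lit 2, nat_lit 0, nat_lit 3], .rel (nat_lit 53) (nat_lit 4) [nat_lit 3, nat_lit 4, nat_lit 1, nat_lit 3, nat_lit 0, nat_lit 3, nat_lit 1, nat_lit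 4, nat_lit 3, nat_lit 0, nat_lit 2, nat_lit 0], .rel (nat_lit 31) (nat_lit 10) [nat_lit 0, nat_lit 3, nat_lit 2, nat_lit 1, nat_lit 3, nat_lit 2, nat_lit 0, nat_lit 2, nat_lit 1, nat_lit 3, nat_lit 1], .rel (nat_lit 33) (nat_lit 4) [nat_lit 0, nat_lit 3, nat_lit 2, nat_lit 0, nat_lit 3, nat_lit 2, nat_lit 0, nat_lit 2, nat_lit 3, nat_lit 0, nat_lit 3], .rel (nat_lit 37) (nat_lit 8) [nat_lit 1, nat_lit 0, nat_lit 2, nat_lit 0, nat_lit 1, nat_lit 0, nat_lit 2, nat_lit 0, nat_lit 2, nat_lit 1, nat_lit 0, nat_lit 2, nat_lit 0, nat_lit 1], .rel (nat_lit 30) (nat_lit 10) [nat_lit 3, nat_lit 0, nat_lit 2, nat_lit 1, nat_lit 3, nat_lit 1, nat_lit 2, nat_lit 0, nat_lit 2, nat_lit 3, nat_lit 1], .rel (nat_lit 50) (nat_lit 2) [nat_lit 3, nat_lit 0, nat_lit 2, nat_lit 0, nat_lit 3, nat_lit 1, nat_lit 4, nat_lit 3, nat_lit 0, nat_lit 3, nat_lit 4,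 nat_lit 1], .rel (nat_lit 33) (nat_lit 0) [nat_lit 3, nat_lit 0, nat_lit 3, nat_lit 2, nat_lit 0, nat_lit 3, nat_lit 2, nat_lit 0, nat_lit 3, nat_lit 2, nat_lit 0], .rel (nat_lit 48) (nat_lit 5) [nat_lit 4, nat_lit 2, nat_lit 3, nat_lit 0, nat_lit 3, nat_lit 2, nat_lit 4, nat_lit 2, nat_lit 3, nat_lit 0, nat_lit 3], .rel (nat_lit 46) (nat_lit 9) [nat_lit 0, nat_lit 2, nat_lit 4, nat_lit 0, nat_lit 2, nat_lit 0, nat_lit 2, nat_lit 1, nat_lit 4, nat_lit 0, nat_lit 1], .rel (nat_lit 32) (nat_lit 7) [nat_lit 3, nat_lit 0, nat_lit 3, nat_lit 2, nat_lit 0, nat_lit 2, nat_lit 3, nat_lit 0, nat_lit 2, nat_lit 3, nat_lit 0], .rel (nat_lit 33) (nat_lit 10) [nat_lit 0, nat_lit 2, nat_lit 3, nat_lit 0, nat_lit 3, nat_lit 2, nat_lit 0, nat_lit 3, nat_lit 2, nat_lit 0, nat_lit 3], .rel (nat_lit 50) (nat_lit 5) [nat_lit 0, nat_lit 3, nat_lit 1, nat_lit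 4, nat_lit 3, nat_lit 0, nat_lit 3, nat_lit 4, nat_lit 1, nat_lit 2, nat_lit 3, nat_lit 0], .rel (nat_lit 45) (nat_lit 2) [nat_lit 0, nat_lit 2, nat_lit 4, nat_lit 2, nat_lit 0, nat_lit 2, nat_lit 1, nat_lit 0, nat_lit 4, nat_lit 1, nat_lit 0], .rel (nat_lit 45) (nat_lit 4) [nat_lit 4, nat_lit 2, nat_lit 0, nat_lit 2, nat_lit 1, nat_lit 0, nat_lit 4, nat_lit 1, nat_lit 0, nat_lit 2, nat_lit 0], .rel (nat_lit 44) (nat_lit 5) [nat_lit 4, nat_lit 2, nat_lit 0, nat_lit 2, nat_lit 0, nat_lit 1, nat_lit 4, nat_lit 0, nat_lit 1, nat_lit 2, nat_lit 0], .rel (nat_lit 37) (nat_lit 5) [nat_lit 0, nat_lit 1, nat_lit 2, nat_lit 1, nat_lit 0, nat_lit 2, nat_lit 0, nat_lit 1, nat_lit 0, nat_lit 2, nat_lit 0, nat_lit 2, nat_lit 1, nat_lit 0], .rel (nat_lit 37) (nat_lit 11) [nat_lit 0, nat_lit 1, nat_lit 0, nat_lit 2, nat_lit 0, nat_lit 2, nat_lit 1, nat_lit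 0, nat_lit 2, nat_lit 0, nat_lit 1, nat_lit 2, nat_lit 1, nat_lit 0], .rel (nat_lit 60) (nat_lit 1) [nat_lit 4, nat_lit 2, nat_lit 0, nat_lit 4, nat_lit 0, nat_lit 2, nat_lit 4, nat_lit 2, nat_lit 0, nat_lit 4, nat_lit 0, nat_lit 2, nat_lit 4, nat_lit 2, nat_lit 0, nat_lit 4, nat_lit 0], .rel (nat_lit 62) (nat_lit 4) [nat_lit 4, nat_lit 0, nat_lit 4, nat_lit 2, nat_lit 4, nat_lit 2, nat_lit 4, nat_lit 0, nat_lit 4, nat_lit 2, nat_lit 4, nat_lit 2, nat_lit 4, nat_lit 0, nat_lit 4, nat_lit 2, nat_lit 4], .rel (nat_lit 75) (nat_lit 3) [nat_lit 0, nat_lit 1, nat_lit 0, nat_lit 4, nat_lit 2, nat_lit 4, nat_lit 2, nat_lit 0, nat_lit 1, nat_lit 0, nat_lit 4, nat_lit 2, nat_lit 4, nat_lit 2, nat_lit 0, nat_lit 1, nat_lit 0, nat_lit 4, nat_lit 2, nat_lit 4], .sub (nat_lit 4) [] [], .rel (nat_lit 47) (nat_lit 2) [nat_lit 1, nat_lit 0, nat_lit 4,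 nat_lit 1, nat_lit 2, nat_lit 0, nat_lit 2, nat_lit 0, nat_lit 4, nat_lit 2, nat_lit 0], .rel (nat_lit 62) (nat_lit 2) [nat_lit 4, nat_lit 2, nat_lit 4, nat_lit 0, nat_lit 4, nat_lit 2, nat_lit 4, nat_lit 2, nat_lit 4, nat_lit 0, nat_lit 4, nat_lit 2, nat_lit 4, nat_lit 2, nat_lit 4, nat_lit 0, nat_lit 4], .rel (nat_lit 64) (nat_lit 2) [nat_lit 4, nat_lit 0, nat_lit 1, nat_lit 2, nat_lit 4, nat_lit 0, nat_lit 1, nat_lit 2, nat_lit 4, nat_lit 0, nat_lit 1, nat_lit 2, nat_lit 4, nat_lit 0, nat_lit 1, nat_lit 2, nat_lit 4, nat_lit 0, nat_lit 1], .rel (nat_lit 68) (nat_lit 1) [nat_lit 4, nat_lit 2, nat_lit 1, nat_lit 2, nat_lit 4, nat_lit 2, nat_lit 1, nat_lit 2, nat_lit 4, nat_lit 2, nat_lit 1, nat_lit 2, nat_lit 4, nat_lit 2, nat_lit 1, nat_lit 2, nat_lit 4, nat_lit 2, nat_lit 1], .rel (nat_lit 70) (nat_lit 2) [nat_lit 4, nat_lit 1, nat_lit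 4, nat_lit 2, nat_lit 4, nat_lit 1, nat_lit 4, nat_lit 2, nat_lit 4, nat_lit 1, nat_lit 4, nat_lit 2, nat_lit 4, nat_lit 1, nat_lit 4, nat_lit 2, nat_lit 4, nat_lit 1, nat_lit 4], .rel (nat_lit 74) (nat_lit 3) [nat_lit 4, nat_lit 2, nat_lit 4, nat_lit 0, nat_lit 1, nat_lit 0, nat_lit 2, nat_lit 4, nat_lit 2, nat_lit 4, nat_lit 0, nat_lit 1, nat_lit 0, nat_lit 2, nat_lit 4, nat_lit 2, nat_lit 4, nat_lit 0, nat_lit 1, nat_lit 0], .rel (nat_lit 75) (nat_lit 1) [nat_lit 4, nat_lit 2, nat_lit 0, nat_lit 1, nat_lit 0, nat_lit 4, nat_lit 2, nat_lit 4, nat_lit 2, nat_lit 0, nat_lit 1, nat_lit 0, nat_lit 4, nat_lit 2, nat_lit 4, nat_lit 2, nat_lit 0, nat_lit 1, nat_lit 0, nat_lit 4]],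
  [.rel (nat_lit 6) (nat_lit 0) [nat_lit 3], .defn, .rel (nat_lit 14) (nat_lit 1) [nat_lit 1, nat_lit 3, nat_lit 1, nat_lit 3, nat_lit 1], .rel (nat_lit 20) (nat_lit 1) [nat_lit 2, nat_lit 3, nat_lit 2, nat_lit 3, nat_lit 2, nat_lit 3, nat_lit 2], .rel (nat_lit 18) (nat_lit 1) [nat_lit 0, nat_lit 3, nat_lit 0, nat_lit 3, nat_lit 0, nat_lit 3, nat_lit 0], .rel (nat_lit 22) (nat_lit 2) [nat_lit 2, nat_lit 3, nat_lit 0, nat_lit 2, nat_lit 3, nat_lit 2, nat_lit 3, nat_lit 0, nat_lit 2], .rel (nat_lit 50) (nat_lit 12) [nat_lit 4, nat_lit 1, nat_lit 2, nat_lit 3, nat_lit 0, nat_lit 2, nat_lit 0, nat_lit 3, nat_lit 1, nat_lit 4, nat_lit 3, nat_lit 0], .rel (nat_lit 26) (nat_lit 2) [nat_lit 2, nat_lit 3, nat_lit 1, nat_lit 2, nat_lit 3, nat_lit 2, nat_lit 3, nat_lit 1, nat_lit 2], .rel (nat_lit 50) (nat_lit 10) [nat_lit 0, nat_lit 3, nat_lit 4,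 nat_lit 1, nat_lit 2, nat_lit 3, nat_lit 0, nat_lit 2, nat_lit 0, nat_lit 3, nat_lit 1, nat_lit 4], .rel (nat_lit 43) (nat_lit 1) [nat_lit 2, nat_lit 3, nat_lit 4, nat_lit 3, nat_lit 2, nat_lit 0, nat_lit 3, nat_lit 2, nat_lit 4, nat_lit 2], .rel (nat_lit 24) (nat_lit 9) [nat_lit 1, nat_lit 2, nat_lit 1, nat_lit 3, nat_lit 2, nat_lit 1, nat_lit 3, nat_lit 1, nat_lit 2], .rel (nat_lit 22) (nat_lit 4) [nat_lit 0, nat_lit 2, nat_lit 3, nat_lit 2, nat_lit 3, nat_lit 0, nat_lit 2, nat_lit 3, nat_lit 2], .rel (nat_lit 23) (nat_lit 0) [nat_lit 2, nat_lit 3, nat_lit 2, nat_lit 0, nat_lit 3, nat_lit 2, nat_lit 3, nat_lit 2, nat_lit 0], .rel (nat_lit 52) (nat_lit 4) [nat_lit 1, nat_lit 4, nat_lit 3, nat_lit 2, nat_lit 0, nat_lit 2, nat_lit 0, nat_lit 3, nat_lit 4, nat_lit 1, nat_lit 3, nat_lit 0], .rel (nat_lit 42) (nat_lit 7) [nat_lit 2, nat_lit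 3, nat_lit 2, nat_lit 4, nat_lit 2, nat_lit 3, nat_lit 0, nat_lit 2, nat_lit 3, nat_lit 4], .rel (nat_lit 31) (nat_lit 0) [nat_lit 2, nat_lit 1, nat_lit 3, nat_lit 2, nat_lit 0, nat_lit 2, nat_lit 1, nat_lit 3, nat_lit 1, nat_lit 2, nat_lit 0], .rel (nat_lit 81) (nat_lit 1) [nat_lit 1, nat_lit 4, nat_lit 3, nat_lit 1, nat_lit 4, nat_lit 3, nat_lit 1, nat_lit 4, nat_lit 3, nat_lit 1, nat_lit 4, nat_lit 3, nat_lit 1, nat_lit 4], .rel (nat_lit 42) (nat_lit 2) [nat_lit 0, nat_lit 2, nat_lit 3, nat_lit 4, nat_lit 3, nat_lit 2, nat_lit 3, nat_lit 2, nat_lit 4, nat_lit 2], .rel (nat_lit 51) (nat_lit 2) [nat_lit 4, nat_lit 1, nat_lit 3, nat_lit 0, nat_lit 2, nat_lit 0, nat_lit 3, nat_lit 2, nat_lit 1, nat_lit 4, nat_lit 3, nat_lit 0], .rel (nat_lit 50) (nat_lit 7) [nat_lit 1, nat_lit 4, nat_lit 3, nat_lit 0, nat_lit 3, nat_lit 4, nat_lit 1, nat_lit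 2, nat_lit 3, nat_lit 0, nat_lit 2, nat_lit 0], .rel (nat_lit 30) (nat_lit 3) [nat_lit 1, nat_lit 2, nat_lit 0, nat_lit 2, nat_lit 3, nat_lit 1, nat_lit 2, nat_lit 3, nat_lit 0, nat_lit 2, nat_lit 1], .rel (nat_lit 43) (nat_lit 3) [nat_lit 4, nat_lit 3, nat_lit 2, nat_lit 0, nat_lit 3, nat_lit 2, nat_lit 4, nat_lit 2, nat_lit 3, nat_lit 2], .rel (nat_lit 32) (nat_lit 10) [nat_lit 2, nat_lit 0, nat_lit 2, nat_lit 3, nat_lit 0, nat_lit 2, nat_lit 3, nat_lit 0, nat_lit 2, nat_lit 3, nat_lit 0], .rel (nat_lit 30) (nat_lit 11) [nat_lit 0, nat_lit 2, nat_lit 1, nat_lit 3, nat_lit 1, nat_lit 2, nat_lit 0, nat_lit 2, nat_lit 3, nat_lit 1, nat_lit 2], .rel (nat_lit 43) (nat_lit 8) [nat_lit 2, nat_lit 4, nat_lit 2, nat_lit 3, nat_lit 2, nat_lit 3, nat_lit 4, nat_lit 3, nat_lit 2, nat_lit 0], .rel (nat_lit 28) (nat_lit 3) [nat_lit 2, nat_lit 3, nat_lit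 0, nat_lit 2, nat_lit 0, nat_lit 3, nat_lit 2, nat_lit 3, nat_lit 0, nat_lit 2, nat_lit 0], .rel (nat_lit 30) (nat_lit 8) [nat_lit 1, nat_lit 2, nat_lit 3, nat_lit 0, nat_lit 2, nat_lit 1, nat_lit 3, nat_lit 1, nat_lit 2, nat_lit 0, nat_lit 2], .rel (nat_lit 23) (nat_lit 2) [nat_lit 2, nat_lit 0, nat_lit 3, nat_lit 2, nat_lit 3, nat_lit 2, nat_lit 0, nat_lit 3, nat_lit 2], .rel (nat_lit 80) (nat_lit 1) [nat_lit 4, nat_lit 1, nat_lit 3, nat_lit 4, nat_lit 1, nat_lit 3, nat_lit 4, nat_lit 1, nat_lit 3, nat_lit 4, nat_lit 1, nat_lit 3, nat_lit 4, nat_lit 1], .rel (nat_lit 27) (nat_lit 2) [nat_lit 2, nat_lit 1, nat_lit 3, nat_lit 2, nat_lit 3, nat_lit 2, nat_lit 1, nat_lit 3, nat_lit 2], .rel (nat_lit 52) (nat_lit 2) [nat_lit 0, nat_lit 3, nat_lit 1, nat_lit 4, nat_lit 3, nat_lit 2, nat_lit 0, nat_lit 2, nat_lit 0, nat_lit 3, nat_lit 4, nat_lit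 1], .rel (nat_lit 42) (nat_lit 5) [nat_lit 4, nat_lit 3, nat_lit 2, nat_lit 3, nat_lit 2, nat_lit 4, nat_lit 2, nat_lit 3, nat_lit 0, nat_lit 2], .rel (nat_lit 26) (nat_lit 4) [nat_lit 1, nat_lit 2, nat_lit 3, nat_lit 2, nat_lit 3, nat_lit 1, nat_lit 2, nat_lit 3, nat_lit 2], .rel (nat_lit 24) (nat_lit 6) [nat_lit 1, nat_lit 2, nat_lit 3, nat_lit 1, nat_lit 2, nat_lit 1, nat_lit 3, nat_lit 2, nat_lit 1], .rel (nat_lit 51) (nat_lit 0) [nat_lit 0, nat_lit 3, nat_lit 4, nat_lit 1, nat_lit 3, nat_lit 0, nat_lit 2, nat_lit 0, nat_lit 3, nat_lit 2, nat_lit 1, nat_lit 4], .rel (nat_lit 27) (nat_lit 0) [nat_lit 2, nat_lit 3, nat_lit 2, nat_lit 1, nat_lit 3, nat_lit 2, nat_lit 3, nat_lit 2, nat_lit 1], .rel (nat_lit 42) (nat_lit 9) [nat_lit 2, nat_lit 4, nat_lit 2, nat_lit 3, nat_lit 0, nat_lit 2, nat_lit 3, nat_lit 4, nat_lit 3, nat_lit 2], .rel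 (nat_lit 43) (nat_lit 5) [nat_lit 2, nat_lit 0, nat_lit 3, nat_lit 2, nat_lit 4, nat_lit 2, nat_lit 3, nat_lit 2, nat_lit 3, nat_lit 4], .rel (nat_lit 24) (nat_lit 3) [nat_lit 2, nat_lit 1, nat_lit 3, nat_lit 1, nat_lit 2, nat_lit 3, nat_lit 1, nat_lit 2, nat_lit 1], .rel (nat_lit 34) (nat_lit 5) [nat_lit 0, nat_lit 2, nat_lit 3, nat_lit 2, nat_lit 0, nat_lit 3, nat_lit 0, nat_lit 2, nat_lit 3, nat_lit 2, nat_lit 0], .rel (nat_lit 52) (nat_lit 7) [nat_lit 2, nat_lit 0, nat_lit 2, nat_lit 0, nat_lit 3, nat_lit 4, nat_lit 1, nat_lit 3, nat_lit 0, nat_lit 3, nat_lit 1, nat_lit 4], .rel (nat_lit 51) (nat_lit 5) [nat_lit 0, nat_lit 2, nat_lit 0, nat_lit 3, nat_lit 2, nat_lit 1, nat_lit 4, nat_lit 3, nat_lit 0, nat_lit 3, nat_lit 4, nat_lit 1], .rel (nat_lit 52) (nat_lit 12) [nat_lit 4, nat_lit 1, nat_lit 3, nat_lit 0, nat_lit 3, nat_lit 1,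 nat_lit 4, nat_lit 3, nat_lit 2, nat_lit 0, nat_lit 2, nat_lit 0], .rel (nat_lit 32) (nat_lit 2) [nat_lit 0, nat_lit 2, nat_lit 3, nat_lit 0, nat_lit 2, nat_lit 3, nat_lit 0, nat_lit 3, nat_lit 2, nat_lit 0, nat_lit 2], .rel (nat_lit 28) (nat_lit 5) [nat_lit 0, nat_lit 2, nat_lit 0, nat_lit 3, nat_lit 2, nat_lit 3, nat_lit 0, nat_lit 2, nat_lit 0, nat_lit 3, nat_lit 2], .rel (nat_lit 48) (nat_lit 4) [nat_lit 2, nat_lit 4, nat_lit 2, nat_lit 3, nat_lit 0, nat_lit 3, nat_lit 2, nat_lit 4, nat_lit 2, nat_lit 3, nat_lit 0], .rel (nat_lit 53) (nat_lit 0) [nat_lit 0, nat_lit 2, nat_lit 0, nat_lit 2, nat_lit 3, nat_lit 4, nat_lit 1, nat_lit 3, nat_lit 0, nat_lit 3, nat_lit 1, nat_lit 4], .rel (nat_lit 31) (nat_lit 3) [nat_lit 2, nat_lit 0, nat_lit 2, nat_lit 1, nat_lit 3, nat_lit 1, nat_lit 2, nat_lit 0, nat_lit 3, nat_lit 2, nat_lit 1], .rel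 (nat_lit 33) (nat_lit 3) [nat_lit 2, nat_lit 0, nat_lit 3, nat_lit 2, nat_lit 0, nat_lit 3, nat_lit 2, nat_lit 0, nat_lit 2, nat_lit 3, nat_lit 0], .rel (nat_lit 32) (nat_lit 8) [nat_lit 0, nat_lit 3, nat_lit 2, nat_lit 0, nat_lit 2, nat_lit 3, nat_lit 0, nat_lit 2, nat_lit 3, nat_lit 0, nat_lit 2], .rel (nat_lit 31) (nat_lit 8) [nat_lit 1, nat_lit 2, nat_lit 0, nat_lit 3, nat_lit 2, nat_lit 1, nat_lit 3, nat_lit 2, nat_lit 0, nat_lit 2, nat_lit 1], .rel (nat_lit 51) (nat_lit 9) [nat_lit 2, nat_lit 1, nat_lit 4, nat_lit 3, nat_lit 0, nat_lit 3, nat_lit 4, nat_lit 1, nat_lit 3, nat_lit 0, nat_lit 2, nat_lit 0], .rel (nat_lit 34) (nat_lit 2) [nat_lit 2, nat_lit 0, nat_lit 3, nat_lit 0, nat_lit 2, nat_lit 3, nat_lit 2, nat_lit 0, nat_lit 3, nat_lit 0, nat_lit 2], .rel (nat_lit 33) (nat_lit 6) [nat_lit 2, nat_lit 0, nat_lit 3, nat_lit 2, nat_lit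 0, nat_lit 2, nat_lit 3, nat_lit 0, nat_lit 3, nat_lit 2, nat_lit 0], .rel (nat_lit 48) (nat_lit 2) [nat_lit 0, nat_lit 3, nat_lit 2, nat_lit 4, nat_lit 2, nat_lit 3, nat_lit 0, nat_lit 3, nat_lit 2, nat_lit 4, nat_lit 2], .rel (nat_lit 50) (nat_lit 3) [nat_lit 0, nat_lit 2, nat_lit 0, nat_lit 3, nat_lit 1, nat_lit 4, nat_lit 3, nat_lit 0, nat_lit 3, nat_lit 4, nat_lit 1, nat_lit 2], .rel (nat_lit 33) (nat_lit 1) [nat_lit 0, nat_lit 3, nat_lit 2, nat_lit 0, nat_lit 3, nat_lit 2, nat_lit 0, nat_lit 3, nat_lit 2, nat_lit 0, nat_lit 2], .rel (nat_lit 53) (nat_lit 10) [nat_lit 1, nat_lit 4, nat_lit 3, nat_lit 0, nat_lit 2, nat_lit 0, nat_lit 2, nat_lit 3, nat_lit 4, nat_lit 1, nat_lit 3, nat_lit 0], .rel (nat_lit 33) (nat_lit 9) [nat_lit 2, nat_lit 0, nat_lit 2, nat_lit 3, nat_lit 0, nat_lit 3, nat_lit 2, nat_lit 0, nat_lit 3, nat_lit 2, nat_lit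 0], .rel (nat_lit 53) (nat_lit 5) [nat_lit 4, nat_lit 1, nat_lit 3, nat_lit 0, nat_lit 3, nat_lit 1, nat_lit 4, nat_lit 3, nat_lit 0, nat_lit 2, nat_lit 0, nat_lit 2], .rel (nat_lit 53) (nat_lit 8) [nat_lit 0, nat_lit 3, nat_lit 1, nat_lit 4, nat_lit 3, nat_lit 0, nat_lit 2, nat_lit 0, nat_lit 2, nat_lit 3, nat_lit 4, nat_lit 1], .rel (nat_lit 32) (nat_lit 5) [nat_lit 0, nat_lit 2, nat_lit 3, nat_lit 0, nat_lit 3, nat_lit 2, nat_lit 0, nat_lit 2, nat_lit 3, nat_lit 0, nat_lit 2], .rel (nat_lit 92) (nat_lit 5) [nat_lit 4, nat_lit 0, nat_lit 1, nat_lit 0, nat_lit 3, nat_lit 0, nat_lit 3, nat_lit 4, nat_lit 0, nat_lit 1, nat_lit 0, nat_lit 3, nat_lit 0, nat_lit 3, nat_lit 4, nat_lit 0, nat_lit 1, nat_lit 0, nat_lit 3, nat_lit 0], .rel (nat_lit 82) (nat_lit 1) [nat_lit 1, nat_lit 3, nat_lit 4, nat_lit 3, nat_lit 1, nat_lit 3, nat_lit 1, nat_lit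 3, nat_lit 4, nat_lit 3, nat_lit 1, nat_lit 3, nat_lit 1, nat_lit 3, nat_lit 4, nat_lit 3, nat_lit 1], .rel (nat_lit 101) (nat_lit 3) [nat_lit 0, nat_lit 3, nat_lit 0, nat_lit 4, nat_lit 1, nat_lit 4, nat_lit 3, nat_lit 0, nat_lit 3, nat_lit 0, nat_lit 4, nat_lit 1, nat_lit 4, nat_lit 3, nat_lit 0, nat_lit 3, nat_lit 0, nat_lit 4, nat_lit 1, nat_lit 4], .sub (nat_lit 6) [] [], .rel (nat_lit 82) (nat_lit 5) [nat_lit 1, nat_lit 3, nat_lit 1, nat_lit 3, nat_lit 4, nat_lit 3, nat_lit 1, nat_lit 3, nat_lit 1, nat_lit 3, nat_lit 4, nat_lit 3, nat_lit 1, nat_lit 3, nat_lit 1, nat_lit 3, nat_lit 4], .rel (nat_lit 88) (nat_lit 3) [nat_lit 1, nat_lit 3, nat_lit 4, nat_lit 3, nat_lit 1, nat_lit 3, nat_lit 4, nat_lit 3, nat_lit 1, nat_lit 3, nat_lit 4, nat_lit 3, nat_lit 1, nat_lit 3, nat_lit 4, nat_lit 3, nat_lit 1, nat_lit 3, nat_lit 4], .rel (nat_lit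 93) (nat_lit 3) [nat_lit 0, nat_lit 1, nat_lit 0, nat_lit 4, nat_lit 3, nat_lit 0, nat_lit 3, nat_lit 0, nat_lit 1, nat_lit 0, nat_lit 4, nat_lit 3, nat_lit 0, nat_lit 3, nat_lit 0, nat_lit 1, nat_lit 0, nat_lit 4, nat_lit 3, nat_lit 0], .rel (nat_lit 94) (nat_lit 2) [nat_lit 0, nat_lit 3, nat_lit 0, nat_lit 4, nat_lit 0, nat_lit 1, nat_lit 3, nat_lit 0, nat_lit 3, nat_lit 0, nat_lit 4, nat_lit 0, nat_lit 1, nat_lit 3, nat_lit 0, nat_lit 3, nat_lit 0, nat_lit 4, nat_lit 0, nat_lit 1], .rel (nat_lit 94) (nat_lit 4) [nat_lit 0, nat_lit 4, nat_lit 0, nat_lit 1, nat_lit 3, nat_lit 0, nat_lit 3, nat_lit 0, nat_lit 4, nat_lit 0, nat_lit 1, nat_lit 3, nat_lit 0, nat_lit 3, nat_lit 0, nat_lit 4, nat_lit 0, nat_lit 1, nat_lit 3, nat_lit 0], .rel (nat_lit 95) (nat_lit 4) [nat_lit 1, nat_lit 0, nat_lit 4, nat_lit 0, nat_lit 3, nat_lit 0, nat_lit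 3, nat_lit 1, nat_lit 0, nat_lit 4, nat_lit 0, nat_lit 3, nat_lit 0, nat_lit 3, nat_lit 1, nat_lit 0, nat_lit 4, nat_lit 0, nat_lit 3, nat_lit 0], .rel (nat_lit 96) (nat_lit 2) [nat_lit 0, nat_lit 3, nat_lit 4, nat_lit 1, nat_lit 0, nat_lit 1, nat_lit 3, nat_lit 0, nat_lit 3, nat_lit 4, nat_lit 1, nat_lit 0, nat_lit 1, nat_lit 3, nat_lit 0, nat_lit 3, nat_lit 4, nat_lit 1, nat_lit 0, nat_lit 1], .rel (nat_lit 97) (nat_lit 4) [nat_lit 1, nat_lit 0, nat_lit 1, nat_lit 4, nat_lit 3, nat_lit 0, nat_lit 3, nat_lit 1, nat_lit 0, nat_lit 1, nat_lit 4, nat_lit 3, nat_lit 0, nat_lit 3, nat_lit 1, nat_lit 0, nat_lit 1, nat_lit 4, nat_lit 3, nat_lit 0], .rel (nat_lit 99) (nat_lit 2) [nat_lit 1, nat_lit 4, nat_lit 1, nat_lit 0, nat_lit 3, nat_lit 0, nat_lit 3, nat_lit 1, nat_lit 4, nat_lit 1, nat_lit 0, nat_lit 3, nat_lit 0, nat_lit 3, nat_lit 1,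 nat_lit 4, nat_lit 1, nat_lit 0, nat_lit 3, nat_lit 0], .rel (nat_lit 100) (nat_lit 1) [nat_lit 0, nat_lit 3, nat_lit 4, nat_lit 1, nat_lit 4, nat_lit 0, nat_lit 3, nat_lit 0, nat_lit 3, nat_lit 4, nat_lit 1, nat_lit 4, nat_lit 0, nat_lit 3, nat_lit 0, nat_lit 3, nat_lit 4, nat_lit 1, nat_lit 4, nat_lit 0]],
  [.rel (nat_lit 8) (nat_lit 0) [nat_lit 4], .defn, .rel (nat_lit 54) (nat_lit 1) [nat_lit 0, nat_lit 4, nat_lit 0, nat_lit 4, nat_lit 0], .rel (nat_lit 38) (nat_lit 0) [nat_lit 0, nat_lit 1, nat_lit 4, nat_lit 0, nat_lit 1], .rel (nat_lit 39) (nat_lit 2) [nat_lit 1, nat_lit 0, nat_lit 4, nat_lit 1, nat_lit 0], .rel (nat_lit 40) (nat_lit 0) [nat_lit 2, nat_lit 0, nat_lit 2, nat_lit 4, nat_lit 2, nat_lit 0, nat_lit 2], .rel (nat_lit 50) (nat_lit 0) [nat_lit 1, nat_lit 2, nat_lit 3, nat_lit 0, nat_lit 2, nat_lit 0, nat_lit 3, nat_lit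 1, nat_lit 4, nat_lit 3, nat_lit 0, nat_lit 3], .rel (nat_lit 50) (nat_lit 9) [nat_lit 3, nat_lit 0, nat_lit 3, nat_lit 4, nat_lit 1, nat_lit 2, nat_lit 3, nat_lit 0, nat_lit 2, nat_lit 0, nat_lit 3, nat_lit 1], .rel (nat_lit 56) (nat_lit 1) [nat_lit 2, nat_lit 4, nat_lit 2, nat_lit 4, nat_lit 2, nat_lit 4, nat_lit 2, nat_lit 4, nat_lit 2, nat_lit 4, nat_lit 2], .rel (nat_lit 42) (nat_lit 6) [nat_lit 3, nat_lit 2, nat_lit 3, nat_lit 2, nat_lit 4, nat_lit 2, nat_lit 3, nat_lit 0, nat_lit 2, nat_lit 3], .rel (nat_lit 58) (nat_lit 2) [nat_lit 0, nat_lit 2, nat_lit 4, nat_lit 0, nat_lit 2, nat_lit 4, nat_lit 0, nat_lit 2, nat_lit 4, nat_lit 0, nat_lit 2, nat_lit 4, nat_lit 0, nat_lit 2], .rel (nat_lit 80) (nat_lit 2) [nat_lit 1, nat_lit 3, nat_lit 4, nat_lit 1, nat_lit 3, nat_lit 4, nat_lit 1, nat_lit 3, nat_lit 4, nat_lit 1, nat_lit 3, nat_lit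 4, nat_lit 1, nat_lit 3], .rel (nat_lit 81) (nat_lit 0) [nat_lit 3, nat_lit 1, nat_lit 4, nat_lit 3, nat_lit 1, nat_lit 4, nat_lit 3, nat_lit 1, nat_lit 4, nat_lit 3, nat_lit 1, nat_lit 4, nat_lit 3, nat_lit 1], .rel (nat_lit 79) (nat_lit 1) [nat_lit 2, nat_lit 0, nat_lit 2, nat_lit 1, nat_lit 0, nat_lit 1, nat_lit 4, nat_lit 2, nat_lit 0, nat_lit 2, nat_lit 1, nat_lit 0, nat_lit 1, nat_lit 4, nat_lit 2, nat_lit 0, nat_lit 2, nat_lit 1, nat_lit 0, nat_lit 1], .rel (nat_lit 43) (nat_lit 4) [nat_lit 3, nat_lit 2, nat_lit 0, nat_lit 3, nat_lit 2, nat_lit 4, nat_lit 2, nat_lit 3, nat_lit 2, nat_lit 3], .rel (nat_lit 42) (nat_lit 0) [nat_lit 2, nat_lit 3, nat_lit 0, nat_lit 2, nat_lit 3, nat_lit 4, nat_lit 3, nat_lit 2, nat_lit 3, nat_lit 2], .rel (nat_lit 43) (nat_lit 10) [nat_lit 2, nat_lit 3, nat_lit 2, nat_lit 3, nat_lit 4, nat_lit 3, nat_lit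 2, nat_lit 0, nat_lit 3, nat_lit 2], .rel (nat_lit 52) (nat_lit 6) [nat_lit 3, nat_lit 2, nat_lit 0, nat_lit 2, nat_lit 0, nat_lit 3, nat_lit 4, nat_lit 1, nat_lit 3, nat_lit 0, nat_lit 3, nat_lit 1], .rel (nat_lit 59) (nat_lit 0) [nat_lit 2, nat_lit 0, nat_lit 4, nat_lit 2, nat_lit 0, nat_lit 4, nat_lit 2, nat_lit 0, nat_lit 4, nat_lit 2, nat_lit 0, nat_lit 4, nat_lit 2, nat_lit 0], .rel (nat_lit 52) (nat_lit 0) [nat_lit 1, nat_lit 3, nat_lit 0, nat_lit 3, nat_lit 1, nat_lit 4, nat_lit 3, nat_lit 2, nat_lit 0, nat_lit 2, nat_lit 0, nat_lit 3], .rel (nat_lit 48) (nat_lit 0) [nat_lit 2, nat_lit 3, nat_lit 0, nat_lit 3, nat_lit 2, nat_lit 4, nat_lit 2, nat_lit 3, nat_lit 0, nat_lit 3, nat_lit 2], .rel (nat_lit 51) (nat_lit 3) [nat_lit 1, nat_lit 3, nat_lit 0, nat_lit 2, nat_lit 0, nat_lit 3, nat_lit 2, nat_lit 1, nat_lit 4, nat_lit 3, nat_lit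 0, nat_lit 3], .rel (nat_lit 45) (nat_lit 11) [nat_lit 1, nat_lit 0, nat_lit 2, nat_lit 0, nat_lit 2, nat_lit 4, nat_lit 2, nat_lit 0, nat_lit 2, nat_lit 1, nat_lit 0], .rel (nat_lit 51) (nat_lit 12) [nat_lit 3, nat_lit 0, nat_lit 3, nat_lit 4, nat_lit 1, nat_lit 3, nat_lit 0, nat_lit 2, nat_lit 0, nat_lit 3, nat_lit 2, nat_lit 1], .rel (nat_lit 47) (nat_lit 11) [nat_lit 2, nat_lit 0, nat_lit 2, nat_lit 1, nat_lit 0, nat_lit 4, nat_lit 1, nat_lit 2, nat_lit 0, nat_lit 2, nat_lit 0], .rel (nat_lit 44) (nat_lit 6) [nat_lit 2, nat_lit 0, nat_lit 2, nat_lit 0, nat_lit 1, nat_lit 4, nat_lit 0, nat_lit 1, nat_lit 2, nat_lit 0, nat_lit 2], .rel (nat_lit 44) (nat_lit 0) [nat_lit 0, nat_lit 1, nat_lit 2, nat_lit 0, nat_lit 2, nat_lit 4, nat_lit 2, nat_lit 0, nat_lit 2, nat_lit 0, nat_lit 1], .rel (nat_lit 53) (nat_lit 12) [nat_lit 3, nat_lit 0,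 nat_lit 2, nat_lit 0, nat_lit 2, nat_lit 3, nat_lit 4, nat_lit 1, nat_lit 3, nat_lit 0, nat_lit 3, nat_lit 1], .rel (nat_lit 46) (nat_lit 0) [nat_lit 0, nat_lit 2, nat_lit 0, nat_lit 2, nat_lit 1, nat_lit 4, nat_lit 0, nat_lit 1, nat_lit 2, nat_lit 0, nat_lit 2], .rel (nat_lit 103) (nat_lit 3) [nat_lit 1, nat_lit 3, nat_lit 0, nat_lit 3, nat_lit 4, nat_lit 0, nat_lit 4, nat_lit 1, nat_lit 3, nat_lit 0, nat_lit 3, nat_lit 4, nat_lit 0, nat_lit 4, nat_lit 1, nat_lit 3, nat_lit 0, nat_lit 3, nat_lit 4, nat_lit 0], .rel (nat_lit 47) (nat_lit 5) [nat_lit 1, nat_lit 2, nat_lit 0, nat_lit 2, nat_lit 0, nat_lit 4, nat_lit 2, nat_lit 0, nat_lit 2, nat_lit 1, nat_lit 0], .rel (nat_lit 53) (nat_lit 6) [nat_lit 1, nat_lit 3, nat_lit 0, nat_lit 3, nat_lit 1, nat_lit 4, nat_lit 3, nat_lit 0, nat_lit 2, nat_lit 0, nat_lit 2, nat_lit 3], .rel (nat_lit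 99) (nat_lit 4) [nat_lit 1, nat_lit 0, nat_lit 3, nat_lit 0, nat_lit 3, nat_lit 1, nat_lit 4, nat_lit 1, nat_lit 0, nat_lit 3, nat_lit 0, nat_lit 3, nat_lit 1, nat_lit 4, nat_lit 1, nat_lit 0, nat_lit 3, nat_lit 0, nat_lit 3, nat_lit 1], .rel (nat_lit 45) (nat_lit 5) [nat_lit 2, nat_lit 0, nat_lit 2, nat_lit 1, nat_lit 0, nat_lit 4, nat_lit 1, nat_lit 0, nat_lit 2, nat_lit 0, nat_lit 2], .rel (nat_lit 102) (nat_lit 3) [nat_lit 0, nat_lit 4, nat_lit 3, nat_lit 0, nat_lit 3, nat_lit 1, nat_lit 4, nat_lit 0, nat_lit 4, nat_lit 3, nat_lit 0, nat_lit 3, nat_lit 1, nat_lit 4, nat_lit 0, nat_lit 4, nat_lit 3, nat_lit 0, nat_lit 3, nat_lit 1], .rel (nat_lit 97) (nat_lit 1) [nat_lit 3, nat_lit 0, nat_lit 3, nat_lit 1, nat_lit 0, nat_lit 1, nat_lit 4, nat_lit 3, nat_lit 0, nat_lit 3, nat_lit 1, nat_lit 0, nat_lit 1, nat_lit 4, nat_lit 3, nat_lit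 0, nat_lit 3, nat_lit 1, nat_lit 0, nat_lit 1], .rel (nat_lit 98) (nat_lit 2) [nat_lit 1, nat_lit 3, nat_lit 0, nat_lit 3, nat_lit 0, nat_lit 1, nat_lit 4, nat_lit 1, nat_lit 3, nat_lit 0, nat_lit 3, nat_lit 0, nat_lit 1, nat_lit 4, nat_lit 1, nat_lit 3, nat_lit 0, nat_lit 3, nat_lit 0, nat_lit 1], .rel (nat_lit 46) (nat_lit 6) [nat_lit 0, nat_lit 1, nat_lit 2, nat_lit 0, nat_lit 2, nat_lit 4, nat_lit 0, nat_lit 2, nat_lit 0, nat_lit 2, nat_lit 1], .rel (nat_lit 74) (nat_lit 4) [nat_lit 2, nat_lit 4, nat_lit 0, nat_lit 1, nat_lit 0, nat_lit 2, nat_lit 4, nat_lit 2, nat_lit 4, nat_lit 0, nat_lit 1, nat_lit 0, nat_lit 2, nat_lit 4, nat_lit 2, nat_lit 4, nat_lit 0, nat_lit 1, nat_lit 0, nat_lit 2], .rel (nat_lit 93) (nat_lit 0) [nat_lit 3, nat_lit 0, nat_lit 3, nat_lit 0, nat_lit 1, nat_lit 0, nat_lit 4, nat_lit 3, nat_lit 0, nat_lit 3, nat_lit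 0, nat_lit 1, nat_lit 0, nat_lit 4, nat_lit 3, nat_lit 0, nat_lit 3, nat_lit 0, nat_lit 1, nat_lit 0], .rel (nat_lit 82) (nat_lit 4) [nat_lit 3, nat_lit 1, nat_lit 3, nat_lit 1, nat_lit 3, nat_lit 4, nat_lit 3, nat_lit 1, nat_lit 3, nat_lit 1, nat_lit 3, nat_lit 4, nat_lit 3, nat_lit 1, nat_lit 3, nat_lit 1, nat_lit 3], .rel (nat_lit 86) (nat_lit 3) [nat_lit 1, nat_lit 3, nat_lit 1, nat_lit 4, nat_lit 1, nat_lit 3, nat_lit 1, nat_lit 4, nat_lit 1, nat_lit 3, nat_lit 1, nat_lit 4, nat_lit 1, nat_lit 3, nat_lit 1, nat_lit 4, nat_lit 1, nat_lit 3, nat_lit 1], .rel (nat_lit 88) (nat_lit 2) [nat_lit 3, nat_lit 1, nat_lit 3, nat_lit 4, nat_lit 3, nat_lit 1, nat_lit 3, nat_lit 4, nat_lit 3, nat_lit 1, nat_lit 3, nat_lit 4, nat_lit 3, nat_lit 1, nat_lit 3, nat_lit 4, nat_lit 3, nat_lit 1, nat_lit 3], .rel (nat_lit 100) (nat_lit 6) [nat_lit 0,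 nat_lit 3, nat_lit 0, nat_lit 3, nat_lit 4, nat_lit 1, nat_lit 4, nat_lit 0, nat_lit 3, nat_lit 0, nat_lit 3, nat_lit 4, nat_lit 1, nat_lit 4, nat_lit 0, nat_lit 3, nat_lit 0, nat_lit 3, nat_lit 4, nat_lit 1], .rel (nat_lit 103) (nat_lit 1) [nat_lit 0, nat_lit 4, nat_lit 1, nat_lit 3, nat_lit 0, nat_lit 3, nat_lit 4, nat_lit 0, nat_lit 4, nat_lit 1, nat_lit 3, nat_lit 0, nat_lit 3, nat_lit 4, nat_lit 0, nat_lit 4, nat_lit 1, nat_lit 3, nat_lit 0, nat_lit 3], .rel (nat_lit 60) (nat_lit 2) [nat_lit 2, nat_lit 0, nat_lit 4, nat_lit 0, nat_lit 2, nat_lit 4, nat_lit 2, nat_lit 0, nat_lit 4, nat_lit 0, nat_lit 2, nat_lit 4, nat_lit 2, nat_lit 0, nat_lit 4, nat_lit 0, nat_lit 2], .rel (nat_lit 64) (nat_lit 3) [nat_lit 0, nat_lit 1, nat_lit 2, nat_lit 4, nat_lit 0, nat_lit 1, nat_lit 2, nat_lit 4, nat_lit 0, nat_lit 1, nat_lit 2, nat_lit 4, nat_lit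 0, nat_lit 1, nat_lit 2, nat_lit 4, nat_lit 0, nat_lit 1, nat_lit 2], .rel (nat_lit 66) (nat_lit 3) [nat_lit 1, nat_lit 2, nat_lit 1, nat_lit 4, nat_lit 1, nat_lit 2, nat_lit 1, nat_lit 4, nat_lit 1, nat_lit 2, nat_lit 1, nat_lit 4, nat_lit 1, nat_lit 2, nat_lit 1, nat_lit 4, nat_lit 1, nat_lit 2, nat_lit 1], .rel (nat_lit 85) (nat_lit 0) [nat_lit 3, nat_lit 1, nat_lit 0, nat_lit 4, nat_lit 3, nat_lit 1, nat_lit 0, nat_lit 4, nat_lit 3, nat_lit 1, nat_lit 0, nat_lit 4, nat_lit 3, nat_lit 1, nat_lit 0, nat_lit 4, nat_lit 3, nat_lit 1, nat_lit 0], .rel (nat_lit 65) (nat_lit 0) [nat_lit 2, nat_lit 1, nat_lit 0, nat_lit 4, nat_lit 2, nat_lit 1, nat_lit 0, nat_lit 4, nat_lit 2, nat_lit 1, nat_lit 0, nat_lit 4, nat_lit 2, nat_lit 1, nat_lit 0, nat_lit 4, nat_lit 2, nat_lit 1, nat_lit 0], .rel (nat_lit 68) (nat_lit 2) [nat_lit 2, nat_lit 1, nat_lit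 2, nat_lit 4, nat_lit 2, nat_lit 1, nat_lit 2, nat_lit 4, nat_lit 2, nat_lit 1, nat_lit 2, nat_lit 4, nat_lit 2, nat_lit 1, nat_lit 2, nat_lit 4, nat_lit 2, nat_lit 1, nat_lit 2], .rel (nat_lit 70) (nat_lit 1) [nat_lit 2, nat_lit 4, nat_lit 1, nat_lit 4, nat_lit 2, nat_lit 4, nat_lit 1, nat_lit 4, nat_lit 2, nat_lit 4, nat_lit 1, nat_lit 4, nat_lit 2, nat_lit 4, nat_lit 1, nat_lit 4, nat_lit 2, nat_lit 4, nat_lit 1], .rel (nat_lit 75) (nat_lit 0) [nat_lit 2, nat_lit 4, nat_lit 2, nat_lit 0, nat_lit 1, nat_lit 0, nat_lit 4, nat_lit 2, nat_lit 4, nat_lit 2, nat_lit 0, nat_lit 1, nat_lit 0, nat_lit 4, nat_lit 2, nat_lit 4, nat_lit 2, nat_lit 0, nat_lit 1, nat_lit 0], .rel (nat_lit 78) (nat_lit 5) [nat_lit 1, nat_lit 0, nat_lit 1, nat_lit 2, nat_lit 0, nat_lit 2, nat_lit 4, nat_lit 1, nat_lit 0, nat_lit 1, nat_lit 2, nat_lit 0, nat_lit 2,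 nat_lit 4, nat_lit 1, nat_lit 0, nat_lit 1, nat_lit 2, nat_lit 0, nat_lit 2], .rel (nat_lit 92) (nat_lit 6) [nat_lit 0, nat_lit 1, nat_lit 0, nat_lit 3, nat_lit 0, nat_lit 3, nat_lit 4, nat_lit 0, nat_lit 1, nat_lit 0, nat_lit 3, nat_lit 0, nat_lit 3, nat_lit 4, nat_lit 0, nat_lit 1, nat_lit 0, nat_lit 3, nat_lit 0, nat_lit 3], .rel (nat_lit 94) (nat_lit 6) [nat_lit 0, nat_lit 1, nat_lit 3, nat_lit 0, nat_lit 3, nat_lit 0, nat_lit 4, nat_lit 0, nat_lit 1, nat_lit 3, nat_lit 0, nat_lit 3, nat_lit 0, nat_lit 4, nat_lit 0, nat_lit 1, nat_lit 3, nat_lit 0, nat_lit 3, nat_lit 0]]]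
noncomputable def cb5 : TCert2 := ⟨22275, 22275, 62284, 5, 65535, 524287, 4, Tb5, Ib5, Db5, Eb5, Jb5, Wb5, [[nat_lit 0],
  [nat_lit 1],
  [nat_lit 2],
  [nat_lit 3]], RLb5⟩

end H1.McT
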